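import Cfsg.Agent.Lib.Blocks.SmallDim.Adjoint
import Cfsg.Agent.Lib.SL2.Psl
import Mathlib.FieldTheory.IsAlgClosed.Basic
import Mathlib.LinearAlgebra.Determinant

/-!
# `PSL(2)` as the special orthogonal group of a conic
-/

set_option autoImplicit false
set_option linter.unusedSectionVars false

namespace Cfsg.Agent.Blocks.SmallDim

universe u v

open Matrix

variable {k : Type v} [Field k]

local notation "SL" => Matrix.SpecialLinearGroup (Fin 2) k
local notation "M2" => Matrix (Fin 2) (Fin 2) k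

/-- The symmetric square matrix. -/
def sqMat (g : M2) : Matrix (Fin 3) (Fin 3) k :=
  !![g 0 0 ^ 2, 2 * g 0 0 * g 0 1, g 0 1 ^ 2;
     g 0 0 * g 1 0, g 0 0 * g 1 1 + g 0 1 * g 1 0, g 0 1 * g 1 1;
     g 1 0 ^ 2, 2 * g 1 0 * g 1 1, g 1 1 ^ 2]

theorem sqMat_one : sqMat (1 : M2) = 1 := by
  ext i j; fin_cases i <;> fin_cases j <;> simp [sqMat]

theorem sqMat_mul (g h : M2) : sqMat (g * h) = sqMat g * sqMat h := by
  ext i j; fin_cases i <;> fin_cases j <;>
    simp [sqMat, Matrix.mul_apply, Fin.sum_univ_succ] <;> ring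

/-- The symmetric square. -/
noncomputable def sq2 : SL →* Module.End k (Fin 3 → k) where
  toFun g := Matrix.toLin' (sqMat (g : M2))
  map_one' := by rw [Matrix.SpecialLinearGroup.coe_one, sqMat_one, Matrix.toLin'_one]; rfl
  map_mul' g h := by rw [Matrix.SpecialLinearGroup.coe_mul, sqMat_mul, Matrix.toLin'_mul]; rfl

theorem sq2_apply (g : SL) (z : Fin 3 → k) :
    sq2 g z 0 = (g : M2) 0 0 ^ 2 * z 0 + 2 * (g : M2) 0 0 * (g : M2) 0 1 * z 1 + (g : M2) 0 1 ^ 2 * z 2 ∧
    sq2 g z 1 = (g : M2) 0 0 * (g : M2) 1 0 * z 0 +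
      ((g : M2) 0 0 * (g : M2) 1 1 + (g : M2) 0 1 * (g : M2) 1 0) * z 1 +
      (g : M2) 0 1 * (g : M2) 1 1 * z 2 ∧
    sq2 g z 2 = (g : M2) 1 0 ^ 2 * z 0 + 2 * (g : M2) 1 0 * (g : M2) 1 1 * z 1 + (g : M2) 1 1 ^ 2 * z 2 := by
  refine ⟨?_, ?_, ?_⟩ <;>
    simp [sq2, sqMat, Matrix.mulVec, dotProduct, Fin.sum_univ_succ] <;> ring

theorem det_eq (g : SL) : (g : M2) 0 0 * (g : M2) 1 1 - (g : M2) 0 1 * (g : M2) 1 0 = 1 := by
  rw [← Matrix.det_fin_two]; exact g.2

theorem qc_sq2 (g : SL) (z : Fin 3 → k) : Qc (sq2 g z) = Qc z := by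
  obtain ⟨e0, e1, e2⟩ := sq2_apply g z
  rw [Qc, Qc, e0, e1, e2]
  linear_combination (z 0 * z 2 - z 1 ^ 2) *
    ((g : M2) 0 0 * (g : M2) 1 1 - (g : M2) 0 1 * (g : M2) 1 0 + 1) * det_eq g

theorem det_sq2 (g : SL) : LinearMap.det (sq2 g) = 1 := by
  show LinearMap.det (Matrix.toLin' (sqMat (g : M2))) = 1
  rw [LinearMap.det_toLin', Matrix.det_fin_three]
  simp only [sqMat, Matrix.cons_val', Matrix.cons_val_zero, Matrix.cons_val_one, Matrix.cons_val_two,
    Matrix.of_apply, Matrix.empty_val', Matrix.cons_val_fin_one, Matrix.head_cons, Matrix.tail_cons,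
    Matrix.head_fin_const]
  linear_combination (((g : M2) 0 0 * (g : M2) 1 1 - (g : M2) 0 1 * (g : M2) 1 0) ^ 2 +
    ((g : M2) 0 0 * (g : M2) 1 1 - (g : M2) 0 1 * (g : M2) 1 0) + 1) * det_eq g

theorem sq2_ker {g : SL} : sq2 g = 1 ↔ SL2.π g = 1 := by
  rw [SL2.π_eq_one]
  refine ⟨fun h => ?_, fun h => ?_⟩
  · have h0 := LinearMap.congr_fun h ![1, 0, 0]
    have h1 := LinearMap.congr_fun h ![0, 1, 0]
    have h2 := LinearMap.congr_fun h ![0, 0, 1]
    obtain ⟨-, -, a2⟩ := sq2_apply g ![1, 0, 0]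
    obtain ⟨b0, -, -⟩ := sq2_apply g ![0, 0, 1]
    obtain ⟨-, c1, -⟩ := sq2_apply g ![0, 1, 0]
    obtain ⟨d0, -, -⟩ := sq2_apply g ![1, 0, 0]
    rw [h0] at a2 d0
    rw [h2] at b0
    rw [h1] at c1
    simp at a2 b0 c1 d0
    have hc : (g : M2) 1 0 = 0 := (pow_eq_zero_iff two_ne_zero).mp a2.symm
    have hb : (g : M2) 0 1 = 0 := (pow_eq_zero_iff two_ne_zero).mp b0.symm
    rw [hb, zero_mul, add_zero] at c1
    refine ⟨hb, hc, ?_⟩
    linear_combination (g : M2) 0 0 * c1 - (g : M2) 1 1 * d0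
  · obtain ⟨hb, hc, hd⟩ := h
    have hdet := det_eq g
    rw [hb, hc, mul_zero, sub_zero, ← hd] at hdet
    refine LinearMap.ext fun z => ?_
    obtain ⟨e0, e1, e2⟩ := sq2_apply g z
    funext i
    fin_cases i
    · show sq2 g z 0 = z 0
      rw [e0, hb]; linear_combination z 0 * hdet
    · show sq2 g z 1 = z 1
      rw [e1, hb, hc, ← hd]; linear_combination z 1 * hdet
    · show sq2 g z 2 = z 2
      rw [e2, hc, ← hd]; linear_combination z 2 * hdet

/-- Every element of the special orthogonal group of the conic is a symmetric square. -/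
theorem exists_sq2 [IsAlgClosed k] (h2 : (2 : k) ≠ 0) (σ : Module.End k (Fin 3 → k))
    (hQ : ∀ z, Qc (σ z) = Qc z) (hdet : LinearMap.det σ = 1) : ∃ g : SL, sq2 g = σ := by
  set v := σ ![1, 0, 0] with hv
  have hvQ : v 0 * v 2 - v 1 ^ 2 = 0 := by
    have := hQ ![1, 0, 0]
    rw [Qc, Qc] at this
    simpa [hv] using this
  have hv0 : v ≠ 0 := by
    intro h
    have hinj : Function.Injective σ :=
      (LinearMap.equivOfDetNeZero σ (by rw [hdet]; exact one_ne_zero)).injective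
    have := congrFun (hinj (h.trans (map_zero σ).symm)) 0
    simp at this
  obtain ⟨g, hg⟩ : ∃ g : SL, sq2 g ![1, 0, 0] = v := by
    have key : ∀ g : SL, (g : M2) 0 0 ^ 2 = v 0 → (g : M2) 0 0 * (g : M2) 1 0 = v 1 →
        (g : M2) 1 0 ^ 2 = v 2 → sq2 g ![1, 0, 0] = v := by
      intro g a b c
      obtain ⟨e0, e1, e2⟩ := sq2_apply g ![1, 0, 0]
      funext i
      fin_cases i
      · show sq2 g _ 0 = v 0
        rw [e0]; simp [a]
      · show sq2 g _ 1 = v 1
        rw [e1]; simp [b]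
      · show sq2 g _ 2 = v 2
        rw [e2]; simp [c]
    by_cases h0 : v 0 = 0
    · have h1 : v 1 = 0 := by
        rw [h0, zero_mul, zero_sub, neg_eq_zero] at hvQ
        exact pow_eq_zero_iff (by norm_num) |>.mp hvQ
      obtain ⟨c, hc⟩ := IsAlgClosed.exists_eq_mul_self (v 2)
      have hc0 : c ≠ 0 := by
        rintro rfl
        refine hv0 (funext fun i => ?_)
        fin_cases i
        · exact h0
        · exact h1
        · simpa using hc
      refine ⟨⟨!![0, -c⁻¹; c, 0], by simp [Matrix.det_fin_two, hc0]⟩, key _ ?_ ?_ ?_⟩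
      · simp [h0]
      · simp [h1]
      · simp [hc, pow_two]
    · obtain ⟨a, ha⟩ := IsAlgClosed.exists_eq_mul_self (v 0)
      have ha0 : a ≠ 0 := by rintro rfl; exact h0 (by simpa using ha)
      refine ⟨⟨!![a, 0; v 1 / a, a⁻¹], by simp [Matrix.det_fin_two, ha0]⟩, key _ ?_ ?_ ?_⟩
      · simp [ha, pow_two]
      · simp only [Matrix.of_apply, Matrix.cons_val', Matrix.cons_val_zero, Matrix.cons_val_one,
          Matrix.cons_val_fin_one, Matrix.empty_val']
        field_simp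
      · simp only [Matrix.of_apply, Matrix.cons_val', Matrix.cons_val_zero, Matrix.cons_val_one,
          Matrix.cons_val_fin_one, Matrix.empty_val']
        field_simp
        linear_combination (-1 : k) * hvQ + (v 2) * ha
  set B := sq2 g⁻¹ * σ with hB
  have hinv : sq2 g⁻¹ * sq2 g = 1 := by rw [← map_mul, inv_mul_cancel, map_one]
  have hB0 : B ![1, 0, 0] = ![1, 0, 0] := by
    rw [hB, Module.End.mul_apply, ← hv, ← hg, ← Module.End.mul_apply, hinv, Module.End.one_apply]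
  have hBQ : ∀ z, Qc (B z) = Qc z := fun z => by rw [hB, Module.End.mul_apply, qc_sq2, hQ]
  have hBdet : LinearMap.det B = 1 := by rw [hB, map_mul, det_sq2, hdet, one_mul]
  have hpol : ∀ y z : Fin 3 → k, B y 0 * B z 2 + B y 2 * B z 0 - 2 * (B y 1 * B z 1) =
      y 0 * z 2 + y 2 * z 0 - 2 * (y 1 * z 1) := by
    intro y z
    have h := hBQ (y + z)
    have h1 := hBQ y
    have h3 := hBQ z
    simp only [Qc, map_add, Pi.add_apply] at h h1 h3
    linear_combination h - h1 - h3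
  set a := B ![0, 1, 0] with ha
  set b := B ![0, 0, 1] with hb
  have ea2 : a 2 = 0 := by
    have h := hpol ![0, 1, 0] ![1, 0, 0]
    rw [← ha, hB0] at h
    simpa using h
  have eb2 : b 2 = 1 := by
    have h := hpol ![0, 0, 1] ![1, 0, 0]
    rw [← hb, hB0] at h
    simpa using h
  have ea1 : a 1 = 1 := by
    have h : LinearMap.det B = a 1 := by
      rw [← LinearMap.det_toMatrix', Matrix.det_fin_three]
      have c0 : ∀ i, LinearMap.toMatrix' B i 0 = (![1, 0, 0] : Fin 3 → k) i := fun i => by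
        rw [LinearMap.toMatrix'_apply, show Pi.single (0 : Fin 3) (1 : k) = ![1, 0, 0] by
          ext j; fin_cases j <;> simp, hB0]
      have c1 : ∀ i, LinearMap.toMatrix' B i 1 = a i := fun i => by
        rw [LinearMap.toMatrix'_apply, show Pi.single (1 : Fin 3) (1 : k) = ![0, 1, 0] by
          ext j; fin_cases j <;> simp]
      have c2 : ∀ i, LinearMap.toMatrix' B i 2 = b i := fun i => by
        rw [LinearMap.toMatrix'_apply, show Pi.single (2 : Fin 3) (1 : k) = ![0, 0, 1] by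
          ext j; fin_cases j <;> simp]
      rw [c0, c0, c0, c1, c1, c1, c2, c2, c2, ea2, eb2]
      simp
    rw [← h, hBdet]
  have eb1 : a 0 - 2 * b 1 = 0 := by
    have h := hpol ![0, 1, 0] ![0, 0, 1]
    rw [← ha, ← hb, ea1, ea2, eb2] at h
    simpa using h
  have eb0 : b 0 - b 1 ^ 2 = 0 := by
    have h := hBQ ![0, 0, 1]
    rw [← hb, Qc, Qc, eb2] at h
    simpa using h
  set u : SL := ⟨!![1, b 1; 0, 1], by simp [Matrix.det_fin_two]⟩ with hu
  refine ⟨g * u, ?_⟩
  have hBeq : sq2 u = B := by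
    refine LinearMap.ext fun z => ?_
    have hz : z = z 0 • (![1, 0, 0] : Fin 3 → k) + z 1 • ![0, 1, 0] + z 2 • ![0, 0, 1] := by
      funext i; fin_cases i <;> simp
    have hBz : B z = z 0 • (![1, 0, 0] : Fin 3 → k) + z 1 • a + z 2 • b := by
      conv_lhs => rw [hz]
      rw [map_add, map_add, map_smul, map_smul, map_smul, hB0]
    obtain ⟨e0, e1, e2⟩ := sq2_apply u z
    rw [hBz]
    funext i
    fin_cases i
    · show sq2 u z 0 = z 0 * 1 + z 1 * a 0 + z 2 * b 0
      rw [e0, sub_eq_zero.mp eb0, sub_eq_zero.mp eb1]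
      simp [hu]
      ring
    · show sq2 u z 1 = z 0 * 0 + z 1 * a 1 + z 2 * b 1
      rw [e1, ea1]
      simp [hu]
      ring
    · show sq2 u z 2 = z 0 * 0 + z 1 * a 2 + z 2 * b 2
      rw [e2, ea2, eb2]
      simp [hu]
  rw [map_mul, hBeq, hB, ← mul_assoc, ← map_mul, mul_inv_cancel, map_one, one_mul]

/-- A representation preserving the conic with determinant one factors through `PSL(2)`. -/
theorem exists_hom_psl [IsAlgClosed k] (h2 : (2 : k) ≠ 0) {G : Type u} [Group G]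
    (σ : Representation k G (Fin 3 → k)) (hQ : ∀ g z, Qc (σ g z) = Qc z)
    (hdet : ∀ g, LinearMap.det (σ g) = 1) :
    ∃ φ : G →* Matrix.ProjectiveSpecialLinearGroup (Fin 2) k, ∀ g, φ g = 1 → σ g = 1 := by
  choose pre hpre using fun g => exists_sq2 h2 (σ g) (hQ g) (hdet g)
  refine ⟨MonoidHom.mk' (fun g => SL2.π (pre g)) fun a b => ?_, fun g hg => ?_⟩
  · rw [← map_mul, ← inv_mul_eq_one, ← map_inv, ← map_mul, ← sq2_ker, map_mul, map_mul, hpre, hpre,
      ← map_mul σ, ← hpre, ← map_mul, inv_mul_cancel, map_one]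
  · rw [← hpre]
    exact sq2_ker.mpr hg

end Cfsg.Agent.Blocks.SmallDim
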