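import Cfsg.Agent.Lib.CT.SmallFaithful.Local

/-!
# Counting with a Sylow subgroup of order `p` whose centralizer is central modulo itself
-/

set_option autoImplicit false
set_option linter.unusedSectionVars false
set_option linter.style.haveILetI false

namespace Cfsg.Agent.Blocks.SmallDim

open scoped Cfsg.Agent.Blocks.D1
open Blocks CT.SmallFaithful

universe u

variable {G : Type u} [Group G] [Fintype G] {p : ℕ} [hp : Fact p.Prime] {P : Sylow p G} (S : D1.Setup P)

theorem u_eq_of_conj {n : D1.cN P} {k : ℕ} (h : (n : G) * S.x * (n : G)⁻¹ = S.x ^ k) : S.u n = k := by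
  have e : S.cj n S.xC = S.xC ^ k := Subtype.ext (by
    rw [S.coe_cj, SubmonoidClass.coe_pow]; exact h)
  rw [D1.Setup.u, e, S.ell_pow, S.ell_xC, mul_one]

theorem conj_eq (n : D1.cN P) : (n : G) * S.x * (n : G)⁻¹ = S.x ^ (S.u n).val := by
  have hmem : ((S.cj n S.xC : D1.cC P) : G) ∈ (P : Subgroup G) :=
    (Subgroup.mem_normalizer_iff.mp n.2 _).mp S.x_mem_P
  obtain ⟨i, hi⟩ := S.mem_P_iff.mp hmem
  have e : S.u n = i := by rw [D1.Setup.u, hi, S.ell_xpow]
  have e' := congrArg Subtype.val hi
  rw [S.coe_cj, SubmonoidClass.coe_pow] at e'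
  rw [e]
  exact e'

variable (hz : ∀ c : D1.cC P, S.ell c = 0 → (c : G) ∈ Subgroup.center G)
  (hzp : ¬ p ∣ Nat.card (Subgroup.center G))

include S hz hzp in
theorem card_cC_eq : Nat.card (D1.cC P) = p * Nat.card (Subgroup.center G) := by
  have hle : Subgroup.center G ≤ D1.cC P := Subgroup.center_le_centralizer _
  have hell : ∀ z : Subgroup.center G, S.ell ⟨z, hle z.2⟩ = 0 := fun z =>
    (S.ell_eq_zero_iff _).mpr fun h => hzp (h.trans (Subgroup.orderOf_dvd_natCard _ z.2))
  have hN : NeZero p := ⟨hp.out.ne_zero⟩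
  let f : ZMod p × Subgroup.center G → D1.cC P := fun q => S.xC ^ q.1.val * ⟨q.2, hle q.2.2⟩
  have hf : Function.Bijective f := by
    refine ⟨fun a b e => ?_, fun c => ?_⟩
    · have e1 := congrArg S.ell e
      simp only [f, S.ell_mul, S.ell_xpow, hell, add_zero] at e1
      simp only [f, e1, mul_left_cancel_iff] at e
      exact Prod.ext e1 (Subtype.ext (congrArg (Subtype.val : D1.cC P → G) e))
    · obtain ⟨y, hy, hy0⟩ := S.exists_decomp c
      exact ⟨(S.ell c, ⟨y, hz y hy0⟩), hy.symm⟩
  rw [← Nat.card_eq_of_bijective f hf, Nat.card_prod, Nat.card_zmod]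

include S hz hzp in
theorem card_eq_sylow : Nat.card G =
    Nat.card (Sylow p G) * (p * Nat.card (Subgroup.center G) * ee S) := by
  have e : Nat.card G = Nat.card (Sylow p G) * Nat.card (D1.cN P) := by
    rw [P.card_eq_index_normalizer, mul_comm]
    exact ((D1.cN P).card_mul_index).symm
  rw [e, card_cN S, card_cC_eq S hz hzp]

end Cfsg.Agent.Blocks.SmallDim
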