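import Cfsg.Agent.Lib.SL2.Dickson
import Cfsg.Agent.Lib.SL2.DicksonApps
import Cfsg.Agent.Lib.SL2.DicksonPGL
import Cfsg.Agent.Lib.SmallSimple.RecognizePrime
import Mathlib.FieldTheory.IntermediateField.Adjoin.Basic

/-!
# Finite perfect subgroups of `PSL(2)` in characteristic `p` with Sylow subgroups of order `p`
-/

set_option autoImplicit false
set_option linter.unusedSectionVars false

namespace Cfsg.Agent.Blocks.SmallDim

universe u v

open Matrix

/-- The map of projective special linear groups along a field homomorphism. -/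
noncomputable def pslHom {K L : Type*} [Field K] [Field L] (f : K →+* L) :
    Matrix.ProjectiveSpecialLinearGroup (Fin 2) K →* Matrix.ProjectiveSpecialLinearGroup (Fin 2) L :=
  QuotientGroup.lift _ ((SL2.π).comp (Matrix.SpecialLinearGroup.map f)) (by
    intro g hg
    rw [MonoidHom.mem_ker, MonoidHom.comp_apply, SL2.π_eq_one]
    obtain ⟨hb, hc, hd⟩ := (SL2.scal_iff_mem_center g).mpr hg
    refine ⟨?_, ?_, ?_⟩
    · simp [hb]
    · simp [hc]
    · simp [hd])

theorem pslHom_injective {K L : Type*} [Field K] [Field L] (f : K →+* L) :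
    Function.Injective (pslHom f) := by
  rw [injective_iff_map_eq_one]
  intro x hx
  obtain ⟨g, rfl⟩ := SL2.π_surjective x
  have h : SL2.π (Matrix.SpecialLinearGroup.map f g) = 1 := hx
  rw [SL2.π_eq_one] at h ⊢
  obtain ⟨hb, hc, hd⟩ := h
  exact ⟨f.injective (by simpa using hb), f.injective (by simpa using hc),
    f.injective (by simpa using hd)⟩

theorem not_isSolvable_of_perfect {G : Type u} [Group G] [Nontrivial G] (h : commutator G = ⊤) :
    ¬ Group.IsSolvable G := by
  intro hs
  haveI := hs
  obtain ⟨n, hn⟩ := (isSolvable_def G).mp hs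
  have hk : ∀ j : ℕ, derivedSeries G j = ⊤ := by
    intro j
    induction j with
    | zero => rfl
    | succ j ih => rw [derivedSeries_succ, ih]; exact h
  exact bot_ne_top (hn.symm.trans (hk n))

set_option maxHeartbeats 1000000 in
/-- A finite perfect subgroup with a Sylow subgroup of order `p` is `PSL(2, p)`. -/
theorem image_psl {k : Type v} [Field k] {p : ℕ} [hp : Fact p.Prime] [CharP k p] (h5 : 5 ≤ p)
    (hint : ∀ a : k, IsIntegral ℤ a) (H : Subgroup (Matrix.ProjectiveSpecialLinearGroup (Fin 2) k))
    [Finite H] (hperf : commutator H = ⊤) (hd : p ∣ Nat.card H) (hsq : ¬ p ^ 2 ∣ Nat.card H) :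
    Nonempty (H ≃* Matrix.ProjectiveSpecialLinearGroup (Fin 2) (ZMod p)) := by
  classical
  letI : Algebra (ZMod p) k := ZMod.algebra k p
  choose lift hlift using fun h : H => SL2.π_surjective (h : Matrix.ProjectiveSpecialLinearGroup (Fin 2) k)
  set S : Set k := Set.range fun a : H × Fin 2 × Fin 2 =>
    ((lift a.1 : Matrix.SpecialLinearGroup (Fin 2) k) : Matrix (Fin 2) (Fin 2) k) a.2.1 a.2.2
  haveI : Finite S := (Set.finite_range _).to_subtype
  set F := IntermediateField.adjoin (ZMod p) S
  haveI : FiniteDimensional (ZMod p) F :=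
    IntermediateField.finiteDimensional_adjoin fun a _ => (hint a).tower_top
  haveI : Finite F := Module.finite_of_finite (ZMod p)
  letI : Fintype F := Fintype.ofFinite F
  haveI : CharP F p := charP_of_injective_algebraMap (algebraMap (ZMod p) F).injective p
  set f := pslHom (algebraMap F k) with hf
  have hfinj : Function.Injective f := pslHom_injective _
  set H' := H.comap f
  have hle : H ≤ f.range := by
    intro h hh
    have hmem : ∀ i j, ((lift ⟨h, hh⟩ : Matrix.SpecialLinearGroup (Fin 2) k) :
        Matrix (Fin 2) (Fin 2) k) i j ∈ F := fun i j =>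
      IntermediateField.subset_adjoin _ _ ⟨(⟨h, hh⟩, i, j), rfl⟩
    let M : Matrix (Fin 2) (Fin 2) F := Matrix.of fun i j => ⟨_, hmem i j⟩
    have hM : M.det = 1 := by
      refine (algebraMap F k).injective ?_
      rw [map_one, RingHom.map_det]
      exact (lift ⟨h, hh⟩).2
    refine ⟨SL2.π ⟨M, hM⟩, ?_⟩
    refine Eq.trans ?_ (hlift ⟨h, hh⟩)
    show SL2.π (Matrix.SpecialLinearGroup.map (algebraMap F k) ⟨M, hM⟩) = _
    exact congrArg SL2.π (Subtype.ext (Matrix.ext fun i j => rfl))
  have e : H' ≃* H :=
    (Subgroup.equivMapOfInjective H' f hfinj).trans (MulEquiv.subgroupCongr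
      (Subgroup.map_comap_eq_self hle))
  have hperf' : commutator H' = ⊤ := by
    rw [commutator_def, ← Subgroup.map_top_of_surjective e.symm.toMonoidHom e.symm.surjective,
      ← Subgroup.map_commutator, ← commutator_def, hperf]
  have hcard : Nat.card H' = Nat.card H := Nat.card_congr e.toEquiv
  haveI : Nontrivial H' := Finite.one_lt_card_iff_nontrivial.mp (by
    rw [hcard]; exact hp.out.one_lt.trans_le (Nat.le_of_dvd Nat.card_pos hd))
  have hns := not_isSolvable_of_perfect hperf'
  have hsmall : ∀ {A : Type} [Group A] (n : ℕ), Nat.card A = n → Nonempty (H' ≃* A) → p ∣ n := by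
    intro A _ n hn ⟨i⟩
    rw [← hn, ← Nat.card_congr i.toEquiv, hcard]; exact hd
  rcases SL2.dickson p H' with ⟨r, -, -, hcyc⟩ | ⟨r, -, -, n, -, -, ⟨i⟩⟩ | ⟨g, hg⟩ | ⟨-, hi⟩ |
    ⟨-, hi⟩ | ⟨-, hp5, hi⟩ | ⟨K, γ, hK4, ⟨⟨i⟩, -⟩ | ⟨⟨i⟩, -⟩⟩
  · exact absurd (Group.isSolvable_of_comm fun a b : H' => by
      letI := IsCyclic.commGroup (α := H')
      exact mul_comm a b) hns
  · haveI := SL2.isSolvable_dihedral n
    exact absurd (Group.isSolvable_of_isSolvable_injective (f := i.toMonoidHom) i.injective) hns
  · haveI := SL2.isSolvable_B0 (F := F)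
    refine absurd (Group.isSolvable_of_isSolvable_injective (f := (((MulAut.conj g).toMonoidHom).comp
      H'.subtype).codRestrict (SL2.B0) fun y => hg y y.2) fun a b hab => ?_) hns
    have := congrArg Subtype.val hab
    exact Subtype.ext ((MulAut.conj g).injective this)
  · have h := hsmall 12 SL2.card_alt_four hi
    have := Nat.le_of_dvd (by norm_num) h
    interval_cases p <;> first | omega | exact absurd hp.out (by norm_num)
  · have h := hsmall 24 SL2.card_perm_four hi
    have := Nat.le_of_dvd (by norm_num) h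
    interval_cases p <;> first | omega | exact absurd hp.out (by norm_num)
  · have h := hsmall 60 SL2.card_alt_five hi
    have := Nat.le_of_dvd (by norm_num) h
    interval_cases p <;> first | omega | exact absurd hp.out (by norm_num)
  · haveI : CharP K p := RingHom.charP K.subtype K.subtype.injective p
    letI : Fintype K := Fintype.ofFinite K
    obtain ⟨⟨n, hn⟩, -, hKc⟩ := FiniteField.card K p
    have hKc' : Nat.card K = p ^ n := by rw [Nat.card_eq_fintype_card]; exact hKc
    have hn1 : n = 1 := by
      by_contra hne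
      apply hsq
      have hodd : Fintype.card K % 2 = 1 := by
        rw [← Nat.odd_iff, hKc]
        exact (hp.out.odd_of_ne_two (by omega)).pow
      have h := RecognizePSL.natCard_PSL2 (F := K) hodd
      rw [← Nat.card_congr i.toEquiv, hcard] at h
      have h1 : p ^ n ∣ Nat.card H * 2 := by
        rw [h, hKc, mul_assoc]; exact dvd_mul_right _ _
      have h2 := (Nat.Coprime.pow_left n ((hp.out.coprime_iff_not_dvd).mpr fun h =>
        absurd (Nat.le_of_dvd two_pos h) (by omega))).dvd_of_dvd_mul_right h1
      exact (pow_dvd_pow p (show 2 ≤ n by omega)).trans h2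
    rw [hn1, pow_one] at hKc'
    let φ : ZMod p ≃+* K := ZMod.ringEquivOfPrime K hp.out (by rw [← Nat.card_eq_fintype_card]; exact hKc')
    refine ⟨(e.symm.trans i).trans (MulEquiv.ofBijective (pslHom φ.symm.toRingHom)
      ⟨pslHom_injective _, fun y => ?_⟩)⟩
    obtain ⟨g, rfl⟩ := SL2.π_surjective y
    refine ⟨SL2.π (Matrix.SpecialLinearGroup.map φ.toRingHom g), ?_⟩
    show SL2.π _ = SL2.π g
    congr 1
    ext a b
    simp
  · exfalso
    letI : Fintype K := Fintype.ofFinite K
    haveI : CharP K p := RingHom.charP K.subtype K.subtype.injective p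
    have hodd : Odd (Fintype.card K) := by
      obtain ⟨n, -, hKc⟩ := FiniteField.card K p
      rw [hKc]
      exact (hp.out.odd_of_ne_two (by omega)).pow
    have hR := SL2.index_R0 (F := K) hodd
    set R := (SL2.R0 : Subgroup (Matrix.ProjGenLinGroup (Fin 2) K))
    haveI : R.Normal := Subgroup.normal_of_index_eq_two hR
    have hcomm : commutator (Matrix.ProjGenLinGroup (Fin 2) K) ≤ R := by
      rw [commutator_def, Subgroup.commutator_le]
      intro a _ b _
      rw [commutatorElement_def, ← QuotientGroup.eq_one_iff]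
      haveI : IsCyclic (Matrix.ProjGenLinGroup (Fin 2) K ⧸ R) := by
        haveI : Fact (Nat.Prime 2) := ⟨Nat.prime_two⟩
        exact isCyclic_of_prime_card (p := 2) hR
      letI := IsCyclic.commGroup (α := Matrix.ProjGenLinGroup (Fin 2) K ⧸ R)
      rw [QuotientGroup.mk_mul, QuotientGroup.mk_mul, QuotientGroup.mk_mul, QuotientGroup.mk_inv,
        QuotientGroup.mk_inv, mul_comm (a : Matrix.ProjGenLinGroup (Fin 2) K ⧸ R), mul_inv_cancel_right,
        mul_inv_cancel]
    have htop : commutator (Matrix.ProjGenLinGroup (Fin 2) K) = ⊤ := by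
      rw [commutator_def, ← Subgroup.map_top_of_surjective i.toMonoidHom i.surjective,
        ← Subgroup.map_commutator, ← commutator_def, hperf']
    rw [htop, top_le_iff] at hcomm
    rw [hcomm, Subgroup.index_top] at hR
    omega

end Cfsg.Agent.Blocks.SmallDim
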