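import Cfsg.Agent.Lib.Blocks.SmallDim.Adjoint
import Cfsg.Agent.Lib.CT.SmallFaithful.Central

/-!
# An orthogonal representation of dimension three from a small faithful character

Some composition factor of the reduction modulo `p` of the character is nontrivial on `x`; the
transfer argument gives a three-dimensional module with an invariant quadratic form.
-/

set_option autoImplicit false
set_option linter.unusedSectionVars false

namespace Cfsg.Agent.Blocks.SmallDim

open scoped ComplexConjugate
open CT CT.SmallFaithful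

universe u v w

section Simple

variable {k : Type v} [Field k] [IsAlgClosed k] {p : ℕ} [hp : Fact p.Prime] [CharP k p]
variable {G : Type u} [Group G] [Finite G]

/-- Either there is an orthogonal representation nontrivial on `x`, or the group acts unipotently. -/
theorem sigma_or_unipotent {x : G} (hx : orderOf x = p) (hsq : ¬ p ^ 2 ∣ Nat.card G)
    (hgen : Subgroup.normalClosure ({x} : Set G) = ⊤) {s : ℕ} (h2 : 2 * s ≤ p) (d : ℕ) :
    ∀ (H : Type w) [AddCommGroup H] [Module k H] [FiniteDimensional k H] (π : Representation k G H),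
      Module.finrank k H ≤ d → (π x - 1) ^ s = 0 →
      (∃ σ : Representation k G (Fin 3 → k), σ x ≠ 1 ∧ ∀ g z, Qc (σ g z) = Qc z) ∨
        ∀ u : G, (π u - 1) ^ d = 0 := by
  induction d with
  | zero =>
    intro H _ _ _ π hd _
    refine Or.inr fun u => ?_
    haveI : Subsingleton H := Module.finrank_zero_iff.mp (Nat.le_zero.mp hd)
    exact LinearMap.ext fun z => Subsingleton.elim _ _
  | succ d ih =>
    intro H _ _ _ π hd hs
    rcases subsingleton_or_nontrivial H with hS | hS
    · exact Or.inr fun u => LinearMap.ext fun z => Subsingleton.elim _ _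
    -- a minimal stable subspace
    obtain ⟨T, ⟨hTne, hTst⟩, hTmin⟩ := (wellFounded_lt (α := Submodule k H)).has_min
      {T | T ≠ ⊥ ∧ ∀ g, T ≤ T.comap (π g)} ⟨⊤, top_ne_bot, fun g z _ => Submodule.mem_top⟩
    set σ := π.subrepresentation T hTst with hσ
    haveI : Nontrivial T := (Submodule.nontrivial_iff_ne_bot).mpr hTne
    have hschur : ∀ φ : Module.End k T, (∀ g, σ g * φ = φ * σ g) → ∃ c : k, φ = c • 1 := by
      intro φ hφ
      obtain ⟨c, hc⟩ := Module.End.exists_eigenvalue φ
      refine ⟨c, LinearMap.ext fun z => ?_⟩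
      set W := (Module.End.eigenspace φ c).map T.subtype with hW
      have hWT : W ≤ T := Submodule.map_subtype_le _ _
      have hWst : ∀ g, W ≤ W.comap (π g) := by
        rintro g _ ⟨t, ht, rfl⟩
        refine ⟨σ g t, ?_, rfl⟩
        have h := LinearMap.congr_fun (hφ g) t
        simp only [Module.End.mul_apply] at h
        rw [SetLike.mem_coe, Module.End.mem_eigenspace_iff] at ht ⊢
        rw [← h, ht, map_smul]
      have hWne : W ≠ ⊥ := fun h => by
        exact hc (Submodule.map_injective_of_injective T.injective_subtype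
          (h.trans (Submodule.map_bot T.subtype).symm))
      have hWeq : W = T := eq_of_le_of_not_lt hWT fun hlt => hTmin W ⟨hWne, hWst⟩ hlt
      obtain ⟨t, ht, hte⟩ : (z : H) ∈ W := hWeq.symm.le z.2
      have htz : t = z := T.injective_subtype hte
      rw [htz, SetLike.mem_coe, Module.End.mem_eigenspace_iff] at ht
      simpa using ht
    have hσpow : ∀ (g : G) (j : ℕ) (t : T), (((σ g - 1) ^ j) t : H) = ((π g - 1) ^ j) t := by
      intro g j
      induction j with
      | zero => intro t; simp
      | succ j ih =>
        intro t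
        rw [pow_succ, pow_succ, Module.End.mul_apply, Module.End.mul_apply, ih]
        rfl
    have hσs : (σ x - 1) ^ s = 0 := LinearMap.ext fun t => Subtype.ext (by rw [hσpow, hs]; rfl)
    by_cases hx1 : σ x = 1
    swap
    · exact Or.inl (exists_adjoint σ hx hsq hσs h2
        (fun e he hee => commutant_idem σ hx hsq hgen hσs h2 hschur he hee) hx1)
    have hker : ∀ y : G, σ y = 1 := by
      let K : Subgroup G :=
        { carrier := {y | σ y = 1}
          one_mem' := map_one σ
          mul_mem' := fun {a b} ha hb => by show σ (a * b) = 1; rw [map_mul, ha, hb, one_mul]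
          inv_mem' := fun {a} ha => by
            show σ a⁻¹ = 1
            calc σ a⁻¹ = σ a⁻¹ * σ a := by rw [(ha : σ a = 1), mul_one]
              _ = 1 := by rw [← map_mul, inv_mul_cancel, map_one] }
      haveI : K.Normal := ⟨fun y hy g => by
        show σ (g * y * g⁻¹) = 1
        rw [map_mul, map_mul, (hy : σ y = 1), mul_one, ← map_mul, mul_inv_cancel, map_one]⟩
      exact fun y => (hgen ▸ Subgroup.normalClosure_le_normal (N := K)
        (Set.singleton_subset_iff.mpr hx1)) (Subgroup.mem_top y)
    set τ := π.quotient T hTst with hτ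
    have hτpow : ∀ (g : G) (j : ℕ) (z : H), ((τ g - 1) ^ j) (T.mkQ z) = T.mkQ (((π g - 1) ^ j) z) := by
      intro g j
      induction j with
      | zero => intro z; simp
      | succ j ih =>
        intro z
        rw [pow_succ, pow_succ, Module.End.mul_apply, Module.End.mul_apply, ← ih]
        rfl
    have hτs : (τ x - 1) ^ s = 0 := LinearMap.ext fun q => by
      obtain ⟨z, rfl⟩ := T.mkQ_surjective q
      rw [hτpow, hs]; simp
    have hdim : Module.finrank k (H ⧸ T) ≤ d := by
      have h1 := T.finrank_quotient_add_finrank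
      have h3 : 0 < Module.finrank k T := Module.finrank_pos
      omega
    rcases ih (H ⧸ T) τ hdim hτs with h | h
    · exact Or.inl h
    refine Or.inr fun u => ?_
    have hq := h u
    refine LinearMap.ext fun z => ?_
    have hmem : ((π u - 1) ^ d) z ∈ T := by
      rw [← Submodule.Quotient.mk_eq_zero, ← T.mkQ_apply, ← hτpow, hq]; rfl
    have h1 : ((σ u - 1 : Module.End k T) ^ 1) ⟨_, hmem⟩ = 0 := by rw [pow_one, hker u, sub_self]; rfl
    have h4 := hσpow u 1 ⟨_, hmem⟩
    rw [h1, pow_one] at h4
    rw [pow_succ', Module.End.mul_apply]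
    exact h4.symm

end Simple

variable {p : ℕ} [hp : Fact p.Prime] {G : Type u} [Group G] [Fintype G] {M : Ideal AlgInt} [M.IsPrime]

open Blocks in
/-- The orthogonal representation attached to a small faithful irreducible character. -/
theorem exists_sigma (hM : IsPModular p M) {x : G} (hx : orderOf x = p) (hsq : ¬ p ^ 2 ∣ Nat.card G)
    (hgen : Subgroup.normalClosure ({x} : Set G) = ⊤) (χ : IrrCharacter G)
    (hfaith : ∀ g : G, (χ : G → ℂ) g = (χ : G → ℂ) 1 → g = 1) (hn : 2 * deg (χ : G → ℂ) ≤ p)
    {q : ℕ} (hq : q.Prime) (hqp : q ≠ p) (hqd : q ∣ Nat.card G) :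
    ∃ σ : Representation (Res M) G (Fin 3 → Res M), σ x ≠ 1 ∧ ∀ g z, Qc (σ g z) = Qc z := by
  classical
  haveI := charP_res hM
  haveI := isAlgClosed_res hM
  set n := deg (χ : G → ℂ) with hn_def
  have hnp : n < p := by have := hp.out.two_le; omega
  have hcl := isClassFunction_of_isIrr χ.2
  set c : G → Res M := fun g => red M (charL M χ g) with hc
  have hccl : ∀ a b : G, c (a * b) = c (b * a) := fun a b =>
    congrArg (red M) (Subtype.ext (isClassFunction_mul_comm hcl a b))
  -- right translation
  let Tr : Representation (Res M) G (G → Res M) :=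
    { toFun := fun g => LinearMap.funLeft (Res M) (Res M) (fun u => u * g)
      map_one' := by ext f u; simp [LinearMap.funLeft_apply]
      map_mul' := fun g h => by ext f u; simp [LinearMap.funLeft_apply, mul_assoc] }
  have hTr : ∀ (g : G) (f : G → Res M) (u : G), Tr g f u = f (u * g) := fun _ _ _ => rfl
  set W := Submodule.span (Res M) (Set.range fun g : G => Tr g c)
  have hWst : ∀ g, W ≤ W.comap (Tr g) := by
    intro g
    rw [Submodule.span_le]
    rintro _ ⟨h, rfl⟩
    show Tr g (Tr h c) ∈ W
    rw [← Module.End.mul_apply, ← map_mul]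
    exact Submodule.subset_span ⟨_, rfl⟩
  set π := Tr.subrepresentation W hWst
  -- the minimal polynomial of `x`
  have hs : (π x - 1) ^ n = 0 := by
    obtain ⟨m, ρ, -, hρ⟩ := χ.2
    have hm : m = n := by
      rw [hn_def, ← hρ, deg_eq_finrank, Module.finrank_fin_fun]
    subst hm
    obtain ⟨bb, ω, hb, hω⟩ := exists_eigenbasis (ρ x) hp.out.pos (by
      rw [← hx, ← map_pow, pow_orderOf_eq_one, map_one])
    have hint : ∀ i, ω i ∈ Loc M := fun i =>
      integral_mem_loc (IsIntegral.of_pow hp.out.pos (by rw [hω i]; exact isIntegral_one))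
    set Q : Polynomial (Loc M) := ∏ i, (Polynomial.X - Polynomial.C ⟨ω i, hint i⟩) with hQ
    have hQmap : Q.map (red M) = ((Polynomial.X : Polynomial (Res M)) - 1) ^ n := by
      rw [hQ, Polynomial.map_prod, Finset.prod_congr rfl fun i _ => ?_, Finset.prod_const,
        Finset.card_univ, Fintype.card_fin, Module.finrank_fin_fun]
      rw [Polynomial.map_sub, Polynomial.map_X, Polynomial.map_C,
        red_root_eq_one hM (k := 1) (Subtype.ext (by simp [hω i])), Polynomial.C_1]
    have hQρ : Polynomial.aeval (ρ x) (Q.map (Loc M).subtype) = 0 := by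
      refine bb.ext fun i => ?_
      rw [hQ, Polynomial.map_prod, ← Finset.prod_erase_mul _ _ (Finset.mem_univ i), map_mul,
        Module.End.mul_apply, Polynomial.map_sub, Polynomial.map_X, Polynomial.map_C, map_sub,
        Polynomial.aeval_X, Polynomial.aeval_C, LinearMap.sub_apply, hb i,
        Module.algebraMap_end_apply]
      simp
    have hrel : ∀ u : G, ∑ j ∈ Finset.range (Q.natDegree + 1), Q.coeff j * charL M χ (u * x ^ j) = 0 := by
      intro u
      refine Subtype.ext ?_
      push_cast
      simp only [coe_charL, ← hρ, Representation.character]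
      have h1 := congrArg (fun T => LinearMap.trace ℂ _ (ρ u * T)) hQρ
      simp only [mul_zero, map_zero] at h1
      rw [← h1, Polynomial.aeval_eq_sum_range' (n := Q.natDegree + 1) (Nat.lt_succ_of_le
        Polynomial.natDegree_map_le), Finset.mul_sum, map_sum]
      refine Finset.sum_congr rfl fun j _ => ?_
      rw [Polynomial.coeff_map, mul_smul_comm, map_smul, ← map_pow, ← map_mul]
      rfl
    have hz : ∀ (g u : G), (Polynomial.aeval (Tr x) (Q.map (red M))) (Tr g c) u = 0 := by
      intro g u
      rw [Polynomial.aeval_eq_sum_range' (n := Q.natDegree + 1) (Nat.lt_succ_of_le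
        Polynomial.natDegree_map_le), LinearMap.sum_apply, Finset.sum_apply]
      have h := congrArg (red M) (hrel (g * u))
      rw [map_sum, map_zero] at h
      rw [← h]
      refine Finset.sum_congr rfl fun j _ => ?_
      rw [Polynomial.coeff_map, LinearMap.smul_apply, Pi.smul_apply, smul_eq_mul, ← map_pow, hTr, hTr,
        map_mul, hccl, ← mul_assoc]
    have hzero : ∀ f ∈ W, ((Tr x - 1) ^ n) f = 0 := by
      have e : (Tr x - 1) ^ n = Polynomial.aeval (Tr x) (Q.map (red M)) := by
        rw [hQmap, map_pow, map_sub, Polynomial.aeval_X, map_one]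
      intro f hf
      rw [← LinearMap.mem_ker, e]
      refine (Submodule.span_le.mpr ?_) hf
      rintro _ ⟨g, rfl⟩
      exact LinearMap.mem_ker.mpr (funext (hz g))
    have hpow : ∀ (j : ℕ) (f : W), (((π x - 1) ^ j) f : G → Res M) = ((Tr x - 1) ^ j) f := by
      intro j
      induction j with
      | zero => intro f; simp
      | succ j ih =>
        intro f
        rw [pow_succ, pow_succ, Module.End.mul_apply, Module.End.mul_apply, ih]
        rfl
    exact LinearMap.ext fun f => Subtype.ext (by rw [hpow, hzero f f.2]; rfl)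
  haveI : FiniteDimensional (Res M) W := inferInstance
  refine (sigma_or_unipotent (s := n) hx hsq hgen hn (Module.finrank (Res M) W) W π le_rfl
    hs).resolve_right fun huni => ?_
  haveI := Fact.mk hq
  obtain ⟨u, hu'⟩ := exists_prime_orderOf_dvd_card' (G := G) q hqd
  have hu1 : π u = 1 := by
    have h := pow_eq_zero_of_le (Nat.lt_pow_self hp.out.one_lt).le (huni u)
    rcases subsingleton_or_nontrivial (Module.End (Res M) W) with h' | h'
    · exact Subsingleton.elim _ _
    · haveI : CharP (Module.End (Res M) W) p :=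
        charP_of_injective_algebraMap (algebraMap (Res M) _).injective p
      have e : (π u - 1 : Module.End (Res M) W) ^ p ^ Module.finrank (Res M) W =
          (π u) ^ p ^ Module.finrank (Res M) W - 1 ^ p ^ Module.finrank (Res M) W :=
        sub_pow_char_pow_of_commute (R := Module.End (Res M) W) _ _ (Commute.one_right _)
      rw [e, one_pow] at h
      have hq1 : π u ^ q = 1 := by rw [← map_pow, ← hu', pow_orderOf_eq_one, map_one]
      have hcop : Nat.Coprime q (p ^ Module.finrank (Res M) W) :=
        Nat.Coprime.pow_right _ ((Nat.coprime_primes hq hp.out).mpr hqp)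
      simpa [hcop.gcd_eq_one] using pow_gcd_eq_one.mpr ⟨hq1, eq_of_sub_eq_zero h⟩
  have hval : ∀ i : ℕ, c (u ^ i) = c 1 := by
    intro i
    have hui : π (u ^ i) = 1 := (by rw [map_pow, hu1, one_pow])
    have h := congrFun (congrArg Subtype.val
      (LinearMap.congr_fun hui (⟨c, Submodule.subset_span ⟨1, by simp⟩⟩ : W))) 1
    simpa [π, hTr, ← map_pow] using h
  -- the average value is the multiplicity of the trivial character
  haveI := Fintype.ofFinite (Subgroup.zpowers u)
  set t := classInner (fun y : Subgroup.zpowers u => (χ : G → ℂ) y) fun _ => 1 with ht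
  have htn : t = (mult (fun y : Subgroup.zpowers u => (χ : G → ℂ) y) fun _ => 1 : ℂ) :=
    mult_spec (isCharacter_restrict _ (isCharacter_of_isIrr χ.2)) isCharacter_one
  set r := mult (fun y : Subgroup.zpowers u => (χ : G → ℂ) y) fun _ => (1 : ℂ)
  have hsum : ∑ i ∈ Finset.range q, (χ : G → ℂ) (u ^ i) = (q : ℂ) * r := by
    rw [← htn, ht, classInner, Nat.card_zpowers, hu', ← mul_assoc,
      mul_inv_cancel₀ (Nat.cast_ne_zero.mpr hq.ne_zero), one_mul,
      ← Fin.sum_univ_eq_sum_range (fun i => (χ : G → ℂ) (u ^ i))]
    conv_rhs => simp only [map_one, mul_one]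
    subst hu'
    refine Fintype.sum_equiv (finEquivZPowers (isOfFinOrder_of_finite u)) _ _ fun i => ?_
    rw [finEquivZPowers_apply]
  have hbound : ∀ i : ℕ, ((χ : G → ℂ) (u ^ i)).re ≤ n := fun i =>
    (Complex.re_le_norm _).trans ((norm_isCharacter_le (isCharacter_of_isIrr χ.2) _).trans (le_of_eq (by
      rw [deg_eq (isCharacter_of_isIrr χ.2), Complex.natCast_re])))
  have hre := congrArg Complex.re hsum
  rw [Complex.re_sum, ← Nat.cast_mul, Complex.natCast_re] at hre
  have hrn : r ≤ n := by
    have h1 := Finset.sum_le_sum (s := Finset.range q) fun i _ => hbound i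
    rw [hre, Finset.sum_const, Finset.card_range, nsmul_eq_mul] at h1
    exact Nat.le_of_mul_le_mul_left (by exact_mod_cast h1) hq.pos
  have hred : ((q * r : ℕ) : Res M) = ((q * n : ℕ) : Res M) := by
    have h1 : (((q * r : ℕ) : ℕ) : Loc M) = ∑ i ∈ Finset.range q, charL M χ (u ^ i) :=
      Subtype.ext (by push_cast; simp only [coe_charL]; rw [hsum])
    rw [← map_natCast (red M), h1, map_sum, Finset.sum_congr rfl fun i _ => hval i, Finset.sum_const,
      Finset.card_range, nsmul_eq_mul, Nat.cast_mul]
    congr 1
    rw [hc, ← map_natCast (red M)]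
    exact congrArg (red M) (Subtype.ext (by rw [coe_charL, deg_eq (isCharacter_of_isIrr χ.2), ← hn_def]; simp))
  have hrn' : r = n := by
    have h1 : ((r : ℕ) : Res M) = ((n : ℕ) : Res M) := by
      have hq0 : (q : Res M) ≠ 0 := by
        rw [Ne, CharP.cast_eq_zero_iff (Res M) p, Nat.prime_dvd_prime_iff_eq hp.out hq]
        exact Ne.symm hqp
      push_cast at hred
      exact mul_left_cancel₀ hq0 hred
    exact CharP.natCast_injOn_Iio (Res M) p (lt_of_le_of_lt hrn hnp) hnp h1
  have hall : ∀ i ∈ Finset.range q, ((χ : G → ℂ) (u ^ i)).re = n := by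
    refine (Finset.sum_eq_sum_iff_of_le fun i _ => hbound i).mp ?_
    rw [hre, hrn', Finset.sum_const, Finset.card_range, nsmul_eq_mul, Nat.cast_mul]
  have h1 := hall 1 (Finset.mem_range.mpr hq.one_lt)
  rw [pow_one] at h1
  have h2 := norm_isCharacter_le (isCharacter_of_isIrr χ.2) u
  rw [deg_eq (isCharacter_of_isIrr χ.2), Complex.natCast_re, ← h1] at h2
  have h3 : ((χ : G → ℂ) u).im = 0 :=
    Complex.abs_re_eq_norm.mp (le_antisymm (Complex.abs_re_le_norm _) (h2.trans (le_abs_self _)))
  have h4 : (χ : G → ℂ) u = (χ : G → ℂ) 1 := by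
    rw [deg_eq (isCharacter_of_isIrr χ.2)]
    refine Complex.ext ?_ ?_
    · rw [h1, Complex.natCast_re]
    · rw [h3, Complex.natCast_im]
  rw [hfaith _ h4, orderOf_one] at hu'
  exact hq.one_lt.ne hu'

end Cfsg.Agent.Blocks.SmallDim
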