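import Cfsg.Agent.Lib.Blocks.SmallDim.Irr
import Cfsg.Agent.Lib.Blocks.SmallDim.Modular
import Cfsg.Agent.Lib.Blocks.SmallDim.Conic
import Cfsg.Agent.Lib.Blocks.SmallDim.Image
import Cfsg.Agent.Lib.Blocks.SmallDim.Count
import Cfsg.Agent.Lib.LinearGroups.PSL

/-!
# Groups with a faithful character of degree `(p - 1)/2` and a non-normal Sylow subgroup of order `p`

Modulo the centre such a group is `PSL(2, p)`.
-/

set_option autoImplicit false
set_option linter.unusedSectionVars false
set_option linter.style.haveILetI false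

namespace Cfsg.Agent.Blocks.SmallDim

open scoped Cfsg.Agent.Blocks.D1 commutatorElement
open CT Blocks CT.SmallFaithful

universe u

variable {p : ℕ} [hp : Fact p.Prime]

/-- The residue field is algebraic over the prime field. -/
theorem isIntegral_res {M : Ideal AlgInt} [M.IsPrime] (hM : IsPModular p M) (a : Res M) :
    IsIntegral ℤ a := by
  haveI := charP_res hM
  letI : Algebra (ZMod p) (Res M) := ZMod.algebra _ p
  haveI : NeZero p := ⟨hp.out.ne_zero⟩
  have hi : ∀ b : AlgInt, IsIntegral (ZMod p) (red M (toLoc M b)) := by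
    intro b
    have hb : IsIntegral ℤ b := (isIntegral_algHom_iff (Subalgebra.val AlgInt) Subtype.val_injective).mp b.2
    exact (map_isIntegral_int ((red M).comp (toLoc M)) hb).tower_top
  obtain ⟨l, rfl⟩ := red_surjective a
  obtain ⟨c, b, hb, e⟩ := l.2
  have hl : l * toLoc M b = toLoc M c := Subtype.ext (by
    rw [Subring.coe_mul, coe_toLoc, coe_toLoc, ← e, div_mul_cancel₀ _ (coe_ne_zero_of_notMem hb)])
  have hb0 : red M (toLoc M b) ≠ 0 := by
    rw [Ne, red_eq_zero_iff, coe_toLoc, memLocalIdeal_coe_iff]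
    exact hb
  have e2 : red M l = red M (toLoc M c) * (red M (toLoc M b))⁻¹ := by
    rw [eq_mul_inv_iff_mul_eq₀ hb0, ← map_mul, hl]
  have h3 : IsIntegral (ZMod p) (red M l) := e2 ▸ (hi c).mul (hi b).inv
  haveI : Module.Finite ℤ (ZMod p) := Module.Finite.of_finite
  haveI : Algebra.IsIntegral ℤ (ZMod p) := Algebra.IsIntegral.of_finite ℤ (ZMod p)
  obtain ⟨P, hPm, hP0⟩ := h3
  obtain ⟨Q, hQP, -, hQm⟩ := Polynomial.lifts_and_degree_eq_and_monic
    ((Polynomial.mem_lifts P).mpr (Polynomial.map_surjective (Int.castRingHom (ZMod p)) (show Function.Surjective (Int.castRingHom (ZMod p)) from fun a => ZMod.intCast_surjective a) P)) hPm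
  refine ⟨Q, hQm, ?_⟩
  rw [← hP0, ← hQP, Polynomial.eval₂_map]
  congr 1
  exact RingHom.ext_int _ _

section Hom

variable {G : Type u} [Group G] [Fintype G] {M : Ideal AlgInt} [M.IsPrime]

/-- The group generated by the conjugates of `x` is `PSL(2, p)` modulo its centre. -/
theorem exists_psl_hom (hM : IsPModular p M) (h5 : 5 ≤ p) {x : G} (hx : orderOf x = p)
    (hsq : ¬ p ^ 2 ∣ Nat.card G) (hnn : ∀ N : Subgroup G, N.Normal → Nat.card N ≠ p)
    (hgen : Subgroup.normalClosure ({x} : Set G) = ⊤) {χ : G → ℂ} (hχ : IsIrrCharacter G χ)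
    (hfaith : ∀ g : G, χ g = χ 1 → g = 1) (hdeg : 2 * deg χ + 1 = p) :
    ∃ f : G →* Matrix.ProjectiveSpecialLinearGroup (Fin 2) (ZMod p),
      Function.Surjective f ∧ f.ker = Subgroup.center G := by
  have he : 2 ≤ deg χ := by omega
  haveI := charP_res hM
  haveI := isAlgClosed_res hM
  haveI : NeZero p := ⟨hp.out.ne_zero⟩
  have hperf := commutator_eq_top hM hx hsq hnn hgen hχ hfaith hdeg he
  have hdvd : p ∣ Nat.card G := hx ▸ orderOf_dvd_natCard x
  obtain ⟨q, hq, hqp, hqd⟩ : ∃ q : ℕ, q.Prime ∧ q ≠ p ∧ q ∣ Nat.card G := by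
    by_contra h
    push Not at h
    obtain ⟨j, hj⟩ : ∃ j, Nat.card G = p ^ j := ⟨_, Nat.eq_prime_pow_of_unique_prime_dvd
      Nat.card_pos.ne' fun {q} hq hd => by_contra fun hne => h q hq hne hd⟩
    rcases Nat.lt_trichotomy j 1 with h' | h' | h'
    · rw [hj, show j = 0 by omega, pow_zero] at hdvd
      exact hp.out.one_lt.ne' (Nat.dvd_one.mp hdvd)
    · rw [h', pow_one] at hj
      exact hnn ⊤ inferInstance (Subgroup.card_top.trans hj)
    · exact hsq (hj ▸ pow_dvd_pow p h')
  obtain ⟨σ, hσx, hσQ⟩ := exists_sigma hM hx hsq hgen ⟨χ, hχ⟩ hfaith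
    (show 2 * deg χ ≤ p by omega) hq hqp hqd
  have hdet : ∀ g, LinearMap.det (σ g) = 1 := by
    let d : G →* (Res M)ˣ := ((LinearMap.det).comp σ).toHomUnits
    intro g
    have hg : g ∈ d.ker := (Abelianization.commutator_subset_ker d) (hperf ▸ Subgroup.mem_top g)
    exact congrArg Units.val (MonoidHom.mem_ker.mp hg)
  have h20 : (2 : Res M) ≠ 0 := fun h => by
    have h' : ((2 : ℕ) : Res M) = 0 := by simpa using h
    rw [CharP.cast_eq_zero_iff (Res M) p] at h'
    exact absurd (Nat.le_of_dvd two_pos h') (by omega)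
  obtain ⟨φ, hφ⟩ := exists_hom_psl h20 σ hσQ hdet
  have hxk : x ∉ φ.ker := fun h => hσx (hφ x h)
  have hkp : ¬ p ∣ Nat.card φ.ker := fun h => hxk (mem_of_dvd hsq _ h (hx ▸ pow_orderOf_eq_one x))
  have hkc : φ.ker ≤ Subgroup.center G := central_of_normal hM hx hsq hnn hgen hχ hfaith hdeg he _ hkp
  have hperf' : commutator φ.range = ⊤ := by
    rw [commutator_def, ← Subgroup.map_top_of_surjective _ φ.rangeRestrict_surjective,
      ← Subgroup.map_commutator, ← commutator_def, hperf]
  have hxr : p ∣ Nat.card φ.range := by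
    have e : orderOf (φ x) = p := by
      rcases (Nat.dvd_prime hp.out).mp (hx ▸ orderOf_map_dvd φ x) with h | h
      · exact absurd (MonoidHom.mem_ker.mpr (orderOf_eq_one_iff.mp h)) hxk
      · exact h
    exact e ▸ φ.range.orderOf_dvd_natCard ⟨x, rfl⟩
  haveI : Finite φ.range := Finite.of_surjective _ φ.rangeRestrict_surjective
  obtain ⟨i⟩ := image_psl h5 (isIntegral_res hM) φ.range hperf' hxr
    fun h => hsq (h.trans (Subgroup.card_range_dvd φ))
  refine ⟨i.toMonoidHom.comp φ.rangeRestrict, i.surjective.comp φ.rangeRestrict_surjective, ?_⟩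
  set f := i.toMonoidHom.comp φ.rangeRestrict with hf
  have hker : f.ker = φ.ker := by
    ext g
    rw [hf, MonoidHom.mem_ker, MonoidHom.mem_ker]
    show i (φ.rangeRestrict g) = 1 ↔ _
    rw [MulEquiv.map_eq_one_iff, Subtype.ext_iff]
    rfl
  refine le_antisymm (hker ▸ hkc) fun z hz => ?_
  haveI hsimple : IsSimpleGroup (Matrix.ProjectiveSpecialLinearGroup (Fin 2) (ZMod p)) :=
    LinGrp.isSimpleGroup_PSL_fin 2 le_rfl fun _ => by rw [Nat.card_zmod]; omega
  have hfs : Function.Surjective f := i.surjective.comp φ.rangeRestrict_surjective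
  have hfz : f z ∈ Subgroup.center (Matrix.ProjectiveSpecialLinearGroup (Fin 2) (ZMod p)) := by
    rw [Subgroup.mem_center_iff]
    intro y
    obtain ⟨g, rfl⟩ := hfs y
    rw [← map_mul, ← map_mul, Subgroup.mem_center_iff.mp hz g]
  rcases IsSimpleGroup.eq_bot_or_eq_top_of_normal
      (Subgroup.center (Matrix.ProjectiveSpecialLinearGroup (Fin 2) (ZMod p))) inferInstance with h | h
  · rw [h] at hfz
    exact Subgroup.mem_bot.mp hfz
  · exfalso
    apply hxk
    rw [← hker]
    have hle : commutator G ≤ f.ker := by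
      rw [commutator_def, Subgroup.commutator_le]
      intro a _ b _
      rw [MonoidHom.mem_ker, map_commutatorElement, commutatorElement_eq_one_iff_mul_comm]
      exact Subgroup.mem_center_iff.mp (h ▸ Subgroup.mem_top (f b)) (f a)
    exact hle (hperf ▸ Subgroup.mem_top x)

end Hom

/-- The contradiction when all powers of `x` are conjugate. -/
theorem not_all_conj {G : Type u} [Group G] [Finite G] {χ : G → ℂ} (hχ : IsCharacter G χ) {x : G}
    (hx : orderOf x = p) (hdeg : 2 * deg χ + 1 = p) (hne : χ x ≠ χ 1)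
    (h : ∀ j : ℕ, ¬ p ∣ j → χ (x ^ j) = χ x) : False := by
  classical
  obtain ⟨n, ρ, rfl⟩ := hχ
  obtain ⟨ω, hω, hval⟩ := exists_eigenvalues ρ x
  rw [deg_eq_finrank] at hdeg
  rw [hx] at hω
  have hp2 : 2 ≤ p := hp.out.two_le
  obtain ⟨ζ, hζ⟩ : ∃ ζ : ℂ, IsPrimitiveRoot ζ p :=
    ⟨_, Complex.isPrimitiveRoot_exp p hp.out.ne_zero⟩
  obtain ⟨i, hi0, hip, hiw⟩ : ∃ i, i ≠ 0 ∧ i < p ∧ ∀ l, ω l ≠ ζ ^ i := by
    by_contra hc
    push Not at hc
    choose g hg using hc
    let F : Fin (p - 1) → Fin (Module.finrank ℂ (Fin n → ℂ)) := fun i =>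
      g ((i : ℕ) + 1) (by omega) (by omega)
    have hF : Function.Injective F := fun a b e => by
      have h1 := hg ((a : ℕ) + 1) (by omega) (by omega)
      have h2 := hg ((b : ℕ) + 1) (by omega) (by omega)
      rw [show g ((a : ℕ) + 1) (by omega) (by omega) = g ((b : ℕ) + 1) (by omega) (by omega) from e,
        h2] at h1
      exact Fin.ext (by have := hζ.pow_inj (by omega) (by omega) h1; omega)
    have := Fintype.card_le_of_injective F hF
    rw [Fintype.card_fin, Fintype.card_fin] at this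
    omega
  set w := (ζ ^ i)⁻¹ with hw
  have hwp : w ^ p = 1 := by
    rw [hw, inv_pow, ← pow_mul, mul_comm, pow_mul, hζ.pow_eq_one, one_pow, inv_one]
  have hw1 : w ≠ 1 := by
    rw [hw, Ne, inv_eq_one]
    exact hζ.pow_ne_one_of_pos_of_lt hi0 hip
  have h0 : ∑ j ∈ Finset.range p, ρ.character (x ^ j) * w ^ j = 0 := by
    simp only [hval, Finset.sum_mul, ← mul_pow]
    rw [Finset.sum_comm]
    refine Finset.sum_eq_zero fun l _ => ?_
    have hne1 : ω l * w ≠ 1 := by
      rw [hw, Ne, mul_inv_eq_one₀ (pow_ne_zero _ (hζ.ne_zero hp.out.ne_zero))]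
      exact hiw l
    rw [geom_sum_eq hne1, mul_pow, hω l, hwp, one_mul, sub_self, zero_div]
  obtain ⟨m, hm⟩ : ∃ m, p = m + 1 := ⟨p - 1, by omega⟩
  have hgeo : ∑ j ∈ Finset.range m, w ^ (j + 1) = -1 := by
    have e : ∑ j ∈ Finset.range p, w ^ j = 0 := by rw [geom_sum_eq hw1, hwp, sub_self, zero_div]
    rw [hm, Finset.sum_range_succ'] at e
    rw [pow_zero] at e
    linear_combination e
  rw [hm, Finset.sum_range_succ', Finset.sum_congr rfl fun j hj => by
    rw [h (j + 1) fun hd => absurd (Nat.le_of_dvd (by omega) hd)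
      (by have := Finset.mem_range.mp hj; omega)]] at h0
  rw [← Finset.mul_sum, hgeo, pow_zero, pow_zero, mul_one] at h0
  exact hne (by linear_combination -h0)

set_option maxHeartbeats 1000000 in
/-- A group with a faithful character of degree `(p - 1)/2` and no normal subgroup of order `p` is
`PSL(2, p)` modulo its centre. -/
theorem psl_of_half {G : Type u} [Group G] [Fintype G] (hdvd : p ∣ Nat.card G)
    (hsq : ¬ p ^ 2 ∣ Nat.card G) (hnn : ∀ N : Subgroup G, N.Normal → Nat.card N ≠ p) {χ : G → ℂ}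
    (hχc : IsCharacter G χ) (hfaith : ∀ g : G, χ g = χ 1 → g = 1) (hdeg : 2 * deg χ + 1 = p) :
    Nonempty ((G ⧸ Subgroup.center G) ≃* Matrix.ProjectiveSpecialLinearGroup (Fin 2) (ZMod p)) := by
  classical
  haveI : NeZero p := ⟨hp.out.ne_zero⟩
  have hfac : (Nat.card G).factorization p = 1 := by
    have h2 := hp.out.factorization_pos_of_dvd Nat.card_pos.ne' hdvd
    have h3 : ¬ 2 ≤ (Nat.card G).factorization p := fun h =>
      hsq ((hp.out.pow_dvd_iff_le_factorization Nat.card_pos.ne').mpr h)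
    omega
  obtain ⟨P⟩ : Nonempty (Sylow p G) := inferInstance
  have hP : Nat.card P = p := by rw [P.card_eq_multiplicity, hfac, pow_one]
  obtain ⟨S⟩ := D1.exists_setup P hP
  set x := S.x
  have hxp : x ^ p = 1 := S.hx ▸ pow_orderOf_eq_one x
  have hxnc : x ∉ Subgroup.center G := fun hc => hnn (Subgroup.zpowers x)
    ⟨fun y hy g => by
      obtain ⟨i, rfl⟩ := Subgroup.mem_zpowers_iff.mp hy
      rw [((show Commute g x from Subgroup.mem_center_iff.mp hc g).zpow_right i).eq,
        mul_inv_cancel_right]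
      exact hy⟩ (by rw [Nat.card_zpowers, S.hx])
  have hzp : ¬ p ∣ Nat.card (Subgroup.center G) := fun h => hxnc (mem_of_dvd hsq _ h hxp)
  -- the degree is at least two
  have hp3 : p ≠ 3 := by
    intro h3
    refine hxnc (Subgroup.mem_center_iff.mpr fun g => ?_)
    have hd : χ 1 = 1 := by rw [deg_eq hχc, show deg χ = 1 by omega, Nat.cast_one]
    exact commutatorElement_eq_one_iff_mul_comm.mp (hfaith _ (linear_trivial_on_commutator hχc hd _
      (Subgroup.commutator_mem_commutator (Subgroup.mem_top g) (Subgroup.mem_top x))))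
  have h5 : 5 ≤ p := by
    have h4 : p ≠ 4 := fun h => absurd hp.out (by rw [h]; norm_num)
    have := hp.out.two_le
    omega
  have hχ := irr_of_half hsq hdvd hnn hχc hfaith hdeg
  obtain ⟨M, hM⟩ := exists_isPModular hp.out
  haveI := hM.2.1.isPrime
  -- the subgroup generated by the conjugates of `x`
  set L := Subgroup.normalClosure ({x} : Set G) with hL
  letI := Fintype.ofFinite L
  have hxL : x ∈ L := Subgroup.subset_normalClosure rfl
  obtain ⟨hnnL, hgenL⟩ := closure_facts hsq hnn S.hx
  have hsqL : ¬ p ^ 2 ∣ Nat.card L := fun h => hsq (h.trans (Subgroup.card_subgroup_dvd_card L))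
  have hxL' : orderOf (⟨x, hxL⟩ : L) = p := by rw [← Subgroup.orderOf_coe]; exact S.hx
  have hdvdL : p ∣ Nat.card L := dvd_card_of_mem S.hx hxL
  have hfaithL : ∀ g : L, χ g = χ (1 : L) → g = 1 := fun g hg => Subtype.ext (hfaith g hg)
  have hχL : IsIrrCharacter L fun l : L => χ l :=
    irr_of_half hsqL hdvdL hnnL (isCharacter_restrict L hχc) hfaithL hdeg
  have hperf := commutator_eq_top hM hxL' hsqL hnnL hgenL hχL hfaithL hdeg (show 2 ≤ deg χ by omega)
  obtain ⟨f, hfs, hfk⟩ := exists_psl_hom hM h5 hxL' hsqL hnnL hgenL hχL hfaithL hdeg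
  -- the Sylow subgroups of `L`
  have hPL : (P : Subgroup G) ≤ L := by rw [← S.hxP]; exact Subgroup.zpowers_le.mpr hxL
  have hQL : ∀ Q : Sylow p G, (Q : Subgroup G) ≤ L := by
    intro Q
    obtain ⟨g, rfl⟩ := MulAction.exists_smul_eq G P Q
    rw [Sylow.coe_subgroup_smul]
    intro y hy
    obtain ⟨z, hz, rfl⟩ := hy
    exact Subgroup.normalClosure_normal.conj_mem z (hPL hz) g
  let PL : Sylow p L := P.subtype hPL
  have hPLc : Nat.card PL = p := by
    show Nat.card ((P : Subgroup G).subgroupOf L) = p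
    rw [Nat.card_congr (Subgroup.subgroupOfEquivOfLe hPL).toEquiv]; exact hP
  obtain ⟨T⟩ := D1.exists_setup PL hPLc
  have hzL : ∀ c : D1.cC PL, T.ell c = 0 → (c : L) ∈ Subgroup.center L := fun c hc =>
    central_of_irr hM hxL' hsqL hnnL hgenL ⟨fun l : L => χ l, hχL⟩ hfaithL
      (show 2 * deg χ ≤ p by omega)
      (Subgroup.mem_centralizer_iff.mp c.2 _ (show x ∈ (P : Subgroup G) from S.x_mem_P))
      ((T.ell_eq_zero_iff c).mp hc)
  have hzpL : ¬ p ∣ Nat.card (Subgroup.center L) := fun h => by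
    have := hfk ▸ mem_of_dvd hsqL _ h (y := (⟨x, hxL⟩ : L)) (Subtype.ext hxp)
    have hone : commutator L ≤ f.ker := by
      rw [hperf, ← hgenL]
      exact Subgroup.normalClosure_le_normal (Set.singleton_subset_iff.mpr this)
    haveI : IsSimpleGroup (Matrix.ProjectiveSpecialLinearGroup (Fin 2) (ZMod p)) :=
      LinGrp.isSimpleGroup_PSL_fin 2 le_rfl fun _ => by rw [Nat.card_zmod]; omega
    obtain ⟨y, hy⟩ := exists_ne (1 : Matrix.ProjectiveSpecialLinearGroup (Fin 2) (ZMod p))
    obtain ⟨l, rfl⟩ := hfs y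
    exact hy (MonoidHom.mem_ker.mp (hone (hperf ▸ Subgroup.mem_top l)))
  set zL := Nat.card (Subgroup.center L)
  have hcardL := card_eq_sylow T hzL hzpL
  have hpsl : Nat.card L * 2 = zL * (p * (p - 1) * (p + 1)) := by
    have h1 := RecognizePSL.natCard_PSL2 (F := ZMod p)
      (by rw [ZMod.card]; exact Nat.odd_iff.mp ⟨deg χ, hdeg.symm⟩)
    rw [ZMod.card] at h1
    rw [← h1, ← mul_assoc, ← Subgroup.card_mul_index f.ker, Subgroup.index_ker,
      MonoidHom.range_eq_top.mpr hfs, Subgroup.card_top, hfk]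
  have hn1 := card_sylow_modEq_one p L
  set nS := Nat.card (Sylow p L)
  set e := deg χ
  have hTe : ee T = e ∧ nS = p + 1 := by
    have hlt := ee_lt T
    have h1 : 2 * (nS * ee T) = (p - 1) * (p + 1) := by
      refine Nat.eq_of_mul_eq_mul_left (show 0 < p * zL from Nat.mul_pos hp.out.pos Nat.card_pos) ?_
      rw [hcardL] at hpsl
      linarith
    obtain ⟨m, hm⟩ : ∃ m, nS = 1 + p * m := by
      refine ⟨nS / p, ?_⟩
      have h2 : nS % p = 1 := by rw [hn1, Nat.mod_eq_of_lt hp.out.one_lt]
      have := Nat.div_add_mod nS p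
      omega
    have h3 : 2 * ee T + 1 + p * (2 * m * ee T) = p * p := by
      rw [hm, show p - 1 = 2 * e by omega] at h1
      have hpp : p * p = p * (2 * e + 1) := by rw [hdeg]
      linarith
    have h4 : p ∣ 2 * ee T + 1 :=
      (Nat.dvd_add_left (dvd_mul_right _ _)).mp (h3 ▸ dvd_mul_right p p)
    obtain ⟨c, hc⟩ := h4
    have hc1 : c = 1 := by
      rcases Nat.lt_trichotomy c 1 with h | h | h
      · rw [show c = 0 by omega] at hc; omega
      · exact h
      · rcases Nat.lt_or_ge c 3 with h' | h'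
        · rw [show c = 2 by omega] at hc; omega
        · have := Nat.mul_le_mul_left p h'; omega
    rw [hc1, mul_one] at hc
    have hTe' : ee T = e := by omega
    refine ⟨hTe', ?_⟩
    rw [hTe'] at h1
    have : nS * e = (p + 1) * e := by
      rw [show p - 1 = 2 * e by omega] at h1
      linarith
    exact Nat.eq_of_mul_eq_mul_right (show 0 < e by omega) this
  -- the Sylow subgroups of `G`
  have hnG : Nat.card (Sylow p G) = p + 1 := by
    rw [← hTe.2]
    refine Nat.card_eq_of_bijective (fun Q => Q.subtype (hQL Q))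
      ⟨fun a b h => Sylow.subtype_injective h, fun Q => ?_⟩
    obtain ⟨R, hR⟩ := Sylow.exists_comap_subtype_eq Q
    exact ⟨R, Sylow.ext hR⟩
  have hfix : ∀ Q : Sylow p G, x • Q = Q → Q = P := by
    intro Q hQ
    have hn : x ∈ Subgroup.normalizer ((Q : Subgroup G) : Set G) :=
      Sylow.smul_eq_iff_mem_normalizer.mp hQ
    have hxQ : x ∈ (Q : Subgroup G) := by
      have h := IsPGroup.inf_normalizer_sylow P.isPGroup' Q
      exact (Subgroup.mem_inf.mp (h ▸ Subgroup.mem_inf.mpr ⟨S.x_mem_P, hn⟩)).2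
    refine Sylow.ext ?_
    rw [← S.hxP]
    refine (Subgroup.eq_of_le_of_card_ge (Subgroup.zpowers_le.mpr hxQ) ?_).symm
    rw [Nat.card_zpowers, S.hx]
    exact le_of_eq ((Q.card_eq_multiplicity).trans (by rw [hfac, pow_one]))
  set act := MulAction.toPermHom G (Sylow p G)
  have hact : ∀ v : G, Commute x v → ¬ p ∣ orderOf v → v ∈ act.ker := by
    intro v hv hvp
    have hvP : v • P = P := by
      rw [Sylow.smul_eq_iff_mem_normalizer]
      exact Subgroup.centralizer_le_normalizer _ (by
        show v ∈ D1.cC P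
        rw [← S.centralizer_x, Subgroup.mem_centralizer_singleton_iff]; exact hv.symm.eq)
    rw [MonoidHom.mem_ker]
    refine Equiv.ext fun Q => ?_
    show v • Q = Q
    by_cases hQ : Q = P
    · rw [hQ, hvP]
    -- the other Sylow subgroups form one orbit of `⟨x⟩`
    have hmove : ∀ i : ℕ, i < p → x ^ i • Q ≠ P := fun i _ h => hQ (by
      have h' : (x ^ i)⁻¹ • P = P := by
        rw [Sylow.smul_eq_iff_mem_normalizer]
        exact Subgroup.le_normalizer (inv_mem (pow_mem S.x_mem_P i))
      rw [← h', ← h, inv_smul_smul])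
    have hinj : ∀ i j : ℕ, i < j → j < p → x ^ i • Q ≠ x ^ j • Q := by
      intro i j hij hjp h
      have h' : x ^ (j - i) • Q = Q := by
        conv_rhs => rw [← inv_smul_smul (x ^ i) Q, h, ← mul_smul]
        rw [show (x ^ i)⁻¹ * x ^ j = x ^ (j - i) by
          rw [inv_mul_eq_iff_eq_mul, ← pow_add]; congr 1; omega]
      have hxz : x ∈ Subgroup.zpowers (x ^ (j - i)) := by
        rw [mem_zpowers_pow_iff, S.hx]
        exact Nat.Coprime.symm (hp.out.coprime_iff_not_dvd.mpr fun hd =>
          absurd (Nat.le_of_dvd (by omega) hd) (by omega))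
      exact hQ (hfix Q ((Subgroup.zpowers_le (H := MulAction.stabilizer G Q)).mpr h' hxz))
    let orb : Fin p → {R : Sylow p G // R ≠ P} := fun i => ⟨x ^ (i : ℕ) • Q, hmove i i.2⟩
    have horb : Function.Bijective orb := by
      rw [Nat.bijective_iff_injective_and_card]
      refine ⟨fun a b h => ?_, ?_⟩
      · rcases lt_trichotomy (a : ℕ) b with h' | h' | h'
        · exact absurd (congrArg Subtype.val h) (hinj a b h' b.2)
        · exact Fin.ext h'
        · exact absurd (congrArg Subtype.val h).symm (hinj b a h' a.2)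
      · letI := Fintype.ofFinite (Sylow p G)
        rw [Nat.card_fin, Nat.card_eq_fintype_card, Fintype.card_subtype_compl,
          Fintype.card_subtype_eq, ← Nat.card_eq_fintype_card, hnG, Nat.add_sub_cancel]
    obtain ⟨i, hi⟩ := horb.2 ⟨v • Q, fun h => hQ (by rw [← inv_smul_smul v Q, h, inv_smul_eq_iff, hvP])⟩
    have hi' : x ^ (i : ℕ) • Q = v • Q := congrArg Subtype.val hi
    have hpow : ∀ r : ℕ, v ^ r • Q = x ^ ((i : ℕ) * r) • Q := by
      intro r
      induction r with
      | zero => simp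
      | succ r ih =>
        rw [pow_succ', mul_smul, ih, ← mul_smul, ← (hv.pow_left _).eq, mul_smul, ← hi', ← mul_smul,
          ← pow_add, Nat.mul_succ]
    by_contra hne
    have h0 : x ^ ((i : ℕ) * orderOf v) • Q = Q := by rw [← hpow, pow_orderOf_eq_one, one_smul]
    have hi0 : (i : ℕ) ≠ 0 := fun h => hne (by rw [← hi', h, pow_zero, one_smul])
    have hxz : x ∈ Subgroup.zpowers (x ^ ((i : ℕ) * orderOf v)) := by
      rw [mem_zpowers_pow_iff, S.hx]
      refine Nat.Coprime.symm (hp.out.coprime_iff_not_dvd.mpr fun hd => ?_)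
      rcases hp.out.dvd_mul.mp hd with h | h
      · exact absurd (Nat.le_of_dvd (Nat.pos_of_ne_zero hi0) h) (by have := i.2; omega)
      · exact hvp h
    exact hQ (hfix Q ((Subgroup.zpowers_le (H := MulAction.stabilizer G Q)).mpr h0 hxz))
  -- elements centralizing `L` are central
  have hcentL : ∀ v : G, (∀ l : L, v * l = l * v) → v ∈ Subgroup.center G := by
    intro v hv
    obtain ⟨n, ρ, -, hρ⟩ := hχ
    let ρL : Representation ℂ L (Fin n → ℂ) := ρ.comp L.subtype
    haveI : ρL.IsIrreducible := isIrreducible_of_isIrrCharacter _ (by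
      rw [show ρL.character = fun l : L => χ l from funext fun l => congrFun hρ l]
      exact hχL)
    have hs := eq_scalar_of_commute ρL (ρ v) fun l => by
      show ρ v * ρ (l : G) = ρ (l : G) * ρ v
      rw [← map_mul, ← map_mul, hv]
    rw [Subgroup.mem_center_iff]
    intro g
    have h1 : χ (g * v * g⁻¹ * v⁻¹) = χ 1 := by
      rw [← hρ]
      have e : ρ (g * v * g⁻¹ * v⁻¹) = ρ 1 := by
        have hc : ρ g * ρ v = ρ v * ρ g := by
          rw [hs, mul_smul_comm, smul_mul_assoc]; rfl
        rw [map_mul, map_mul, map_mul, hc, mul_assoc (ρ v), ← map_mul ρ g, mul_inv_cancel, map_one,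
          mul_one, ← map_mul, mul_inv_cancel, map_one]
      simp only [Representation.character, e]
    have := hfaith _ h1
    rw [mul_inv_eq_one, mul_inv_eq_iff_eq_mul] at this
    exact this
  -- `p'`-elements centralizing `x` are central
  have hzG : ∀ c : D1.cC P, S.ell c = 0 → (c : G) ∈ Subgroup.center G := by
    intro c hc
    set v := (c : G)
    have hk := hact v (Subgroup.mem_centralizer_iff.mp c.2 x S.x_mem_P) ((S.ell_eq_zero_iff c).mp hc)
    haveI : (act.ker.subgroupOf L).Normal := Subgroup.Normal.subgroupOf inferInstance L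
    have hkp : ¬ p ∣ Nat.card (act.ker.subgroupOf L) := by
      intro hd
      have hxk : x ∈ act.ker :=
        mem_of_dvd hsqL _ hd (y := (⟨x, hxL⟩ : L)) (Subtype.ext hxp)
      obtain ⟨Q, hQ⟩ : ∃ Q : Sylow p G, Q ≠ P := by
        by_contra h
        push Not at h
        haveI : Subsingleton (Sylow p G) := ⟨fun a b => (h a).trans (h b).symm⟩
        have := Finite.card_le_one_iff_subsingleton.mpr (inferInstance : Subsingleton (Sylow p G))
        omega
      exact hQ (hfix Q (Equiv.congr_fun (MonoidHom.mem_ker.mp hxk) Q))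
    have hle := central_of_normal hM hxL' hsqL hnnL hgenL hχL hfaithL hdeg (show 2 ≤ e by omega) _ hkp
    have hmem : ∀ l : L, v * l * v⁻¹ * (l : G)⁻¹ ∈ L := fun l =>
      L.mul_mem (Subgroup.normalClosure_normal.conj_mem _ l.2 v) (L.inv_mem l.2)
    have hcz : ∀ l : L, (⟨_, hmem l⟩ : L) ∈ Subgroup.center L := fun l => hle (by
      rw [Subgroup.mem_subgroupOf]
      show v * l * v⁻¹ * (l : G)⁻¹ ∈ act.ker
      rw [mul_assoc v, mul_assoc v]
      exact mul_mem hk (act.normal_ker.conj_mem _ (inv_mem hk) _))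
    have hmul : ∀ a b : L, v * (a * b : L) * v⁻¹ * ((a * b : L) : G)⁻¹ =
        (v * a * v⁻¹ * (a : G)⁻¹) * (v * b * v⁻¹ * (b : G)⁻¹) := by
      intro a b
      have hcomm : (a : G) * (v * b * v⁻¹ * (b : G)⁻¹) = (v * b * v⁻¹ * (b : G)⁻¹) * a :=
        congrArg Subtype.val (Subgroup.mem_center_iff.mp (hcz b) a)
      calc v * (a * b : L) * v⁻¹ * ((a * b : L) : G)⁻¹
          = v * a * v⁻¹ * ((v * b * v⁻¹ * (b : G)⁻¹) * (a : G)⁻¹) := by
            rw [Subgroup.coe_mul]; group
        _ = v * a * v⁻¹ * ((a : G)⁻¹ * (v * b * v⁻¹ * (b : G)⁻¹)) := by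
            congr 1
            rw [eq_inv_mul_iff_mul_eq, ← mul_assoc, hcomm, mul_inv_cancel_right]
        _ = _ := by group
    let δ : L →* Subgroup.center L :=
      { toFun := fun l => ⟨⟨_, hmem l⟩, hcz l⟩
        map_one' := Subtype.ext (Subtype.ext (by simp))
        map_mul' := fun a b => Subtype.ext (Subtype.ext (hmul a b)) }
    refine hcentL v fun l => ?_
    have h : l ∈ δ.ker := by
      refine (?_ : commutator L ≤ δ.ker) (hperf ▸ Subgroup.mem_top l)
      rw [commutator_def, Subgroup.commutator_le]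
      intro a _ b _
      rw [MonoidHom.mem_ker, map_commutatorElement, commutatorElement_eq_one_iff_mul_comm]
      exact Subtype.ext (Subgroup.mem_center_iff.mp (δ b).2 _)
    have h' : v * l * v⁻¹ * (l : G)⁻¹ = 1 :=
      congrArg (fun z : Subgroup.center L => ((z : L) : G)) (MonoidHom.mem_ker.mp h)
    rwa [mul_inv_eq_one, mul_inv_eq_iff_eq_mul] at h'
  have hcardG := card_eq_sylow S hzG hzp
  rw [hnG] at hcardG
  -- the fusion of `x` is that of `L`
  have heS : ee S = e := by
    set UT := Finset.univ.image T.u with hUT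
    set US := Finset.univ.image S.u with hUS
    have hsub : UT ⊆ US := by
      intro k hk
      obtain ⟨n, -, rfl⟩ := Finset.mem_image.mp hk
      have hxT : (⟨x, hxL⟩ : L) ∈ Subgroup.zpowers T.x := by
        rw [T.hxP]; exact S.x_mem_P
      obtain ⟨j, hj⟩ := (mem_powers_iff_mem_zpowers.mpr hxT)
      have hnN : ((n : L) : G) ∈ D1.cN P := by
        rw [Subgroup.mem_normalizer_iff]
        intro y
        constructor
        · intro hy
          exact (Subgroup.mem_normalizer_iff.mp n.2 ⟨y, hPL hy⟩).mp hy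
        · intro hy
          have hyL : y ∈ L := by
            have h := Subgroup.normalClosure_normal.conj_mem _ (hPL hy) ((n : L) : G)⁻¹
            simpa [mul_assoc] using h
          exact (Subgroup.mem_normalizer_iff.mp n.2 ⟨y, hyL⟩).mpr hy
      refine Finset.mem_image.mpr ⟨⟨_, hnN⟩, Finset.mem_univ _, ?_⟩
      have h1 := conj_eq T n
      have h2 : (n : L) * ⟨x, hxL⟩ * (n : L)⁻¹ = (⟨x, hxL⟩ : L) ^ (T.u n).val := by
        rw [← hj]
        show (n : L) * T.x ^ j * (n : L)⁻¹ = (T.x ^ j) ^ (T.u n).val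
        rw [← pow_mul, mul_comm, pow_mul, ← h1, conj_pow]
      rw [u_eq_of_conj S (k := (T.u n).val) (congrArg Subtype.val h2), ZMod.natCast_zmod_val]
    have hcT : UT.card = e := hTe.1
    by_contra hne
    have hne' : ¬ US ⊆ UT := fun h => hne (by
      rw [← hcT]; exact congrArg Finset.card (Finset.Subset.antisymm h hsub))
    obtain ⟨u₀, hu₀, hu₀'⟩ := Finset.not_subset.mp hne'
    have hdis : Disjoint UT (UT.image (u₀ * ·)) := by
      rw [Finset.disjoint_left]
      intro a ha hb
      obtain ⟨b, hb', rfl⟩ := Finset.mem_image.mp hb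
      obtain ⟨m, -, hm⟩ := Finset.mem_image.mp ha
      obtain ⟨n, -, rfl⟩ := Finset.mem_image.mp hb'
      refine hu₀' (Finset.mem_image.mpr ⟨m * n⁻¹, Finset.mem_univ _, ?_⟩)
      refine mul_right_cancel₀ (T.u_ne_zero n) ?_
      rw [← T.u_mul, inv_mul_cancel_right, hm]
    have hsub' : UT.image (u₀ * ·) ⊆ US := by
      intro a ha
      obtain ⟨b, hb, rfl⟩ := Finset.mem_image.mp ha
      obtain ⟨m, -, rfl⟩ := Finset.mem_image.mp hu₀
      obtain ⟨n, -, rfl⟩ := Finset.mem_image.mp (hsub hb)
      exact Finset.mem_image.mpr ⟨m * n, Finset.mem_univ _, S.u_mul m n⟩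
    have hu0 : u₀ ≠ 0 := by
      obtain ⟨m, -, rfl⟩ := Finset.mem_image.mp hu₀
      exact S.u_ne_zero m
    have h2e : 2 * e ≤ US.card := by
      have h := Finset.card_le_card (Finset.union_subset hsub hsub')
      rw [Finset.card_union_of_disjoint hdis,
        Finset.card_image_of_injective _ (mul_right_injective₀ hu0), hcT] at h
      omega
    have hall : US = (Finset.univ : Finset (ZMod p)).erase 0 := by
      refine Finset.eq_of_subset_of_card_le (fun a ha => ?_) ?_
      · obtain ⟨m, -, rfl⟩ := Finset.mem_image.mp ha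
        exact Finset.mem_erase.mpr ⟨S.u_ne_zero m, Finset.mem_univ _⟩
      · rw [Finset.card_erase_of_mem (Finset.mem_univ _), Finset.card_univ, ZMod.card]
        omega
    refine not_all_conj hχc S.hx hdeg ?_ fun j hj => ?_
    · exact fun h => by have := S.hx ▸ orderOf_eq_one_iff.mpr (hfaith _ h); omega
    · have hj' : (j : ZMod p) ∈ US := by
        rw [hall]
        exact Finset.mem_erase.mpr ⟨fun h => hj ((ZMod.natCast_eq_zero_iff _ _).mp h), Finset.mem_univ _⟩
      obtain ⟨n, -, hn⟩ := Finset.mem_image.mp hj'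
      have h := conj_eq S n
      rw [hn, ZMod.val_natCast] at h
      rw [← pow_mod_orderOf x j, S.hx, ← h, isClassFunction_of_isCharacter hχc]
  rw [heS] at hcardG
  rw [hTe.1, hTe.2] at hcardL
  let ψ : L →* G ⧸ Subgroup.center G := (QuotientGroup.mk' _).comp L.subtype
  have hψk : ψ.ker = Subgroup.center L := by
    ext l
    rw [MonoidHom.mem_ker]
    show ((l : G) : G ⧸ Subgroup.center G) = 1 ↔ _
    rw [QuotientGroup.eq_one_iff, Subgroup.mem_center_iff (z := (l : G))]
    constructor
    · exact fun h => Subgroup.mem_center_iff.mpr fun m => Subtype.ext (h _)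
    · intro h
      refine Subgroup.mem_center_iff.mp (hcentL _ fun m => ?_)
      exact (congrArg Subtype.val (Subgroup.mem_center_iff.mp h m)).symm
  have hidx : (Subgroup.center L).index = (Subgroup.center G).index := by
    have hG := (Subgroup.center G).card_mul_index
    have hL' := (Subgroup.center L).card_mul_index
    rw [hcardG] at hG
    rw [hcardL] at hL'
    have a1 : (Subgroup.center G).index = (p + 1) * (p * e) := by
      refine Nat.eq_of_mul_eq_mul_left (Nat.card_pos (α := Subgroup.center G)) ?_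
      rw [hG]; ring
    have a2 : (Subgroup.center L).index = (p + 1) * (p * e) := by
      refine Nat.eq_of_mul_eq_mul_left (Nat.card_pos (α := Subgroup.center L)) ?_
      rw [hL']; ring
    rw [a1, a2]
  have hψs : Function.Surjective ψ := by
    rw [← MonoidHom.range_eq_top]
    refine Subgroup.eq_top_of_card_eq _ ?_
    rw [← Subgroup.index_ker, hψk, hidx]
    rfl
  exact ⟨(QuotientGroup.quotientKerEquivOfSurjective ψ hψs).symm.trans
    ((QuotientGroup.quotientMulEquivOfEq (hψk.trans hfk.symm)).trans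
      (QuotientGroup.quotientKerEquivOfSurjective f hfs))⟩

end Cfsg.Agent.Blocks.SmallDim
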