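import Mathlib.LinearAlgebra.Trace
import Mathlib.LinearAlgebra.Basis.Basic
import Mathlib.LinearAlgebra.Dual.Lemmas
import Mathlib.LinearAlgebra.FiniteDimensional.Basic
import Mathlib.Tactic.LinearCombination
import Mathlib.Tactic.NoncommRing

/-!
# A nilpotent endomorphism with one block, and its lowering operator
-/

set_option autoImplicit false
set_option linter.unusedSectionVars false

namespace Cfsg.Agent.Blocks.SmallDim

universe v w

variable {k : Type v} [Field k] {H : Type w} [AddCommGroup H] [Module k H]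

/-- A basis which is a single chain for `D`. -/
structure Chain (D : Module.End k H) (m : ℕ) where
  b : Module.Basis (Fin m) k H
  step : ∀ (i : Fin m) (h : (i : ℕ) + 1 < m), D (b i) = b ⟨i + 1, h⟩
  last : ∀ i : Fin m, (i : ℕ) + 1 = m → D (b i) = 0

/-- A nilpotent endomorphism with no commuting idempotents except `0` and `1` is a single block. -/
theorem exists_chain [FiniteDimensional k H] [Nontrivial H] (D : Module.End k H) {s : ℕ}
    (hD : D ^ s = 0) (hidem : ∀ e : Module.End k H, D * e = e * D → e * e = e → e = 0 ∨ e = 1) :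
    ∃ m, m ≤ s ∧ 1 ≤ m ∧ Nonempty (Chain D m) := by
  classical
  have hex : ∃ j, D ^ j = 0 := ⟨s, hD⟩
  obtain ⟨m, hm⟩ : ∃ m, Nat.find hex = m + 1 := by
    refine ⟨Nat.find hex - 1, (Nat.sub_add_cancel (Nat.pos_of_ne_zero fun h => ?_)).symm⟩
    have := Nat.find_spec hex
    rw [h, pow_zero] at this
    exact one_ne_zero this
  have hDm : D ^ (m + 1) = 0 := hm ▸ Nat.find_spec hex
  have hDm' : D ^ m ≠ 0 := Nat.find_min hex (by omega)
  obtain ⟨u, hu⟩ : ∃ u, (D ^ m) u ≠ 0 := by
    by_contra h
    push Not at h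
    exact hDm' (LinearMap.ext h)
  obtain ⟨φ, hφ⟩ : ∃ φ : Module.Dual k H, φ ((D ^ m) u) = 1 := by
    obtain ⟨φ, hφ⟩ := Module.Projective.exists_dual_ne_zero k hu
    exact ⟨(φ ((D ^ m) u))⁻¹ • φ, by simp [hφ]⟩
  -- coordinates of the cyclic subspace and the complementary functionals
  set C : (Fin (m + 1) → k) →ₗ[k] H :=
    Fintype.linearCombination k (fun i : Fin (m + 1) => (D ^ (i : ℕ)) u) with hC
  set Φ : H →ₗ[k] (Fin (m + 1) → k) :=
    LinearMap.pi fun i : Fin (m + 1) => φ ∘ₗ (D ^ (m - (i : ℕ))) with hΦ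
  have hCapp : ∀ z, C z = ∑ i, z i • (D ^ (i : ℕ)) u := fun z => rfl
  have hzero : ∀ j, m < j → D ^ j = 0 := fun j h => by
    rw [← Nat.add_sub_cancel' h, pow_add, hDm, zero_mul]
  have hinj : Function.Injective (Φ ∘ₗ C) := by
    rw [injective_iff_map_eq_zero]
    intro z hz
    have key : ∀ j : ℕ, ∀ i : Fin (m + 1), (i : ℕ) = j → z i = 0 := by
      intro j
      induction j using Nat.strong_induction_on with
      | _ j ih =>
        intro i hi
        have h := congrFun hz i
        simp only [LinearMap.coe_comp, Function.comp_apply, hCapp, hΦ, LinearMap.pi_apply,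
          LinearMap.comp_apply, map_sum, map_smul, Pi.zero_apply, ← Module.End.mul_apply, ← pow_add,
          smul_eq_mul] at h
        rw [Finset.sum_eq_single i] at h
        · rwa [Nat.sub_add_cancel (by omega), hφ, mul_one] at h
        · intro l _ hl
          rcases Nat.lt_trichotomy (l : ℕ) i with h' | h' | h'
          · rw [ih l (hi ▸ h') l rfl, zero_mul]
          · exact absurd (Fin.ext h') hl
          · rw [hzero _ (by omega), LinearMap.zero_apply, map_zero, mul_zero]
        · simp
    exact funext fun i => key i i rfl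
  obtain ⟨E, hE⟩ : ∃ E : (Fin (m + 1) → k) ≃ₗ[k] (Fin (m + 1) → k), ∀ z, E z = Φ (C z) :=
    ⟨LinearEquiv.ofBijective (Φ ∘ₗ C) ⟨hinj, LinearMap.injective_iff_surjective.mp hinj⟩, fun z => rfl⟩
  set e : Module.End k H := C ∘ₗ (E.symm : (Fin (m + 1) → k) →ₗ[k] (Fin (m + 1) → k)) ∘ₗ Φ with he
  have heC : ∀ z, e (C z) = C z := fun z => by
    show C (E.symm (Φ (C z))) = C z
    rw [← hE, E.symm_apply_apply]
  have hΦe : ∀ v, Φ (e v) = Φ v := fun v => by
    show Φ (C (E.symm (Φ v))) = Φ v
    rw [← hE, E.apply_symm_apply]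
  have hee : e * e = e := LinearMap.ext fun v => heC _
  have hDC : ∀ z, ∃ z', D (C z) = C z' := fun z => by
    refine ⟨(Fin.cons 0 (fun i : Fin m => z i.castSucc) : Fin (m + 1) → k), ?_⟩
    rw [hCapp, hCapp, map_sum]
    conv_rhs => rw [Fin.sum_univ_succ]
    rw [Fin.sum_univ_castSucc]
    simp only [map_smul, ← Module.End.mul_apply, ← pow_succ', Fin.val_last, hDm,
      LinearMap.zero_apply, smul_zero, add_zero, Fin.val_zero, Fin.val_succ,
      Fin.val_castSucc]
    simp only [Fin.cons_zero, Fin.cons_succ, zero_smul, zero_add]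
  have hker : ∀ v, Φ v = 0 → Φ (D v) = 0 := by
    intro v hv
    refine funext fun i => ?_
    show φ ((D ^ (m - (i : ℕ))) (D v)) = 0
    rw [← Module.End.mul_apply, ← pow_succ]
    rcases Nat.eq_zero_or_pos (i : ℕ) with h | h
    · rw [hzero _ (by omega), LinearMap.zero_apply, map_zero]
    · have := congrFun hv ⟨i - 1, by omega⟩
      rw [show m - (i : ℕ) + 1 = m - ((i : ℕ) - 1) by omega]
      exact this
  have hcomm : D * e = e * D := LinearMap.ext fun v => by
    show D (e v) = e (D v)
    obtain ⟨z, hz⟩ := hDC (E.symm (Φ v))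
    have h1 : Φ (D (v - e v)) = 0 := hker _ (by rw [map_sub, hΦe, sub_self])
    have h2 : e (D (v - e v)) = 0 := by
      show C (E.symm (Φ (D (v - e v)))) = 0
      rw [h1, map_zero, map_zero]
    rw [map_sub, map_sub, sub_eq_zero] at h2
    rw [h2]
    show D (C (E.symm (Φ v))) = e (D (C (E.symm (Φ v))))
    rw [hz, heC]
  have he1 : e = 1 := by
    refine (hidem e hcomm hee).resolve_left fun h0 => hu ?_
    have h1 := heC (Pi.single 0 1)
    rw [h0, LinearMap.zero_apply, hCapp, Finset.sum_eq_single 0] at h1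
    · rw [Pi.single_eq_same, one_smul, Fin.val_zero, pow_zero] at h1
      rw [show u = 0 from h1.symm, map_zero]
    · intro l _ hl
      rw [Pi.single_eq_of_ne hl, zero_smul]
    · simp
  have hsurj : Function.Surjective C := fun v => ⟨E.symm (Φ v), LinearMap.congr_fun he1 v⟩
  set B := Module.Basis.ofEquivFun (LinearEquiv.ofBijective C
    ⟨fun a b h => hinj (show Φ (C a) = Φ (C b) by rw [h]), hsurj⟩).symm with hB
  have hBi : ∀ i, B i = (D ^ (i : ℕ)) u := fun i => by
    rw [hB, Module.Basis.coe_ofEquivFun, LinearEquiv.symm_symm]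
    show C (Pi.single i 1) = _
    rw [hCapp, Finset.sum_eq_single i]
    · rw [Pi.single_eq_same, one_smul]
    · intro l _ hl
      rw [Pi.single_eq_of_ne hl, zero_smul]
    · simp
  refine ⟨m + 1, hm ▸ Nat.find_le hD, Nat.succ_pos m, ⟨⟨B, fun i h => ?_, fun i h => ?_⟩⟩⟩
  · rw [hBi, hBi, ← Module.End.mul_apply, ← pow_succ']
  · rw [hBi, ← Module.End.mul_apply, ← pow_succ', hzero _ (by omega), LinearMap.zero_apply]

namespace Chain

variable {D : Module.End k H} {m : ℕ} (K : Chain D m) [hm : NeZero m]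

/-- The coefficient of `D ^ j` in an endomorphism commuting with `D`. -/
noncomputable def co (j : ℕ) (A : Module.End k H) : k :=
  if h : j < m then K.b.repr (A (K.b 0)) ⟨j, h⟩ else 0

theorem b_eq (i : Fin m) : K.b i = (D ^ (i : ℕ)) (K.b 0) := by
  obtain ⟨j, hj⟩ := i
  induction j with
  | zero => rw [pow_zero]; rfl
  | succ j ih =>
    rw [pow_succ', Module.End.mul_apply, ← ih (by omega), K.step ⟨j, by omega⟩ hj]

theorem pow_eq_zero (K : Chain D m) {j : ℕ} (hj : m ≤ j) : D ^ j = 0 := by
  have h1 : 0 < m := Nat.pos_of_ne_zero hm.out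
  have h0 : (D ^ m) (K.b 0) = 0 := by
    have e : D ^ m = D * D ^ (m - 1) := by rw [← pow_succ', Nat.sub_add_cancel h1]
    rw [e, Module.End.mul_apply,
      show (D ^ (m - 1)) (K.b 0) = K.b ⟨m - 1, by omega⟩ from (K.b_eq ⟨m - 1, by omega⟩).symm]
    exact K.last _ (by show m - 1 + 1 = m; omega)
  have h2 : D ^ m = 0 := K.b.ext fun i => by
    rw [K.b_eq i, ← Module.End.mul_apply, (Commute.pow_pow_self D m i).eq, Module.End.mul_apply, h0,
      map_zero, LinearMap.zero_apply]
  rw [← Nat.add_sub_cancel' hj, pow_add, h2, zero_mul]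

theorem pow_apply (j : ℕ) (i : Fin m) :
    (D ^ j) (K.b i) = if h : (i : ℕ) + j < m then K.b ⟨i + j, h⟩ else 0 := by
  split_ifs with h
  · rw [K.b_eq i, ← Module.End.mul_apply, ← pow_add, add_comm]
    exact (K.b_eq ⟨(i : ℕ) + j, h⟩).symm
  · rw [K.b_eq i, ← Module.End.mul_apply, ← pow_add, K.pow_eq_zero (by omega), LinearMap.zero_apply]

theorem eq_sum {A : Module.End k H} (hA : D * A = A * D) :
    A = ∑ j : Fin m, K.co j A • D ^ (j : ℕ) := by
  refine K.b.ext fun i => ?_
  have h1 : A (K.b i) = (D ^ (i : ℕ)) (A (K.b 0)) := by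
    rw [K.b_eq i, ← Module.End.mul_apply, ← ((show Commute D A from hA).pow_left _).eq,
      Module.End.mul_apply]
  rw [h1, LinearMap.sum_apply]
  conv_lhs => rw [← K.b.sum_repr (A (K.b 0)), map_sum]
  refine Finset.sum_congr rfl fun j _ => ?_
  rw [map_smul, LinearMap.smul_apply, co, dif_pos j.2, K.b_eq j, K.b_eq i, ← Module.End.mul_apply,
    ← Module.End.mul_apply, ← pow_add, ← pow_add, add_comm]

theorem co_pow (j l : ℕ) (hl : l < m) : K.co l (D ^ j) = if l = j then 1 else 0 := by
  rw [co, dif_pos hl, K.pow_apply]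
  split_ifs with h1 h2 h2
  · rw [Module.Basis.repr_self, Finsupp.single_apply, if_pos (Fin.ext (by simp [h2]))]
  · rw [Module.Basis.repr_self, Finsupp.single_eq_of_ne']
    intro e
    have := congrArg Fin.val e
    simp at this
    omega
  · exfalso; simp at h1; omega
  · rw [map_zero]; rfl

theorem co_sum {ι : Type*} (s : Finset ι) (f : ι → Module.End k H) (j : ℕ) :
    K.co j (∑ i ∈ s, f i) = ∑ i ∈ s, K.co j (f i) := by
  simp only [co]
  split_ifs with h
  · rw [LinearMap.sum_apply, map_sum, Finsupp.finsetSum_apply]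
  · rw [Finset.sum_const_zero]

theorem co_smul (c : k) (A : Module.End k H) (j : ℕ) : K.co j (c • A) = c * K.co j A := by
  simp only [co]
  split_ifs with h
  · rw [LinearMap.smul_apply, map_smul, Finsupp.smul_apply, smul_eq_mul]
  · rw [mul_zero]

theorem co_add (A B : Module.End k H) (j : ℕ) : K.co j (A + B) = K.co j A + K.co j B := by
  simp only [co]
  split_ifs with h
  · rw [LinearMap.add_apply, map_add, Finsupp.add_apply]
  · rw [add_zero]

theorem co_sub (A B : Module.End k H) (j : ℕ) : K.co j (A - B) = K.co j A - K.co j B := by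
  simp only [co]
  split_ifs with h
  · rw [LinearMap.sub_apply, map_sub, Finsupp.sub_apply]
  · rw [sub_zero]

theorem repr_apply {A : Module.End k H} (hA : D * A = A * D) (i j : Fin m) :
    K.b.repr (A (K.b i)) j = if (i : ℕ) ≤ j then K.co ((j : ℕ) - i) A else 0 := by
  conv_lhs => rw [K.eq_sum hA, LinearMap.sum_apply, map_sum, Finsupp.finsetSum_apply]
  simp only [LinearMap.smul_apply, map_smul, Finsupp.smul_apply, smul_eq_mul, K.pow_apply]
  split_ifs with h
  · rw [Finset.sum_eq_single (⟨(j : ℕ) - i, by omega⟩ : Fin m)]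
    · rw [dif_pos (by show (i : ℕ) + ((j : ℕ) - i) < m; omega), Module.Basis.repr_self,
        Finsupp.single_apply, if_pos (Fin.ext (by show (i : ℕ) + ((j : ℕ) - i) = j; omega)), mul_one]
    · intro l _ hl
      split_ifs with h'
      · rw [Module.Basis.repr_self, Finsupp.single_apply, if_neg, mul_zero]
        intro e
        have := congrArg Fin.val e
        exact hl (Fin.ext (by simp at this ⊢; omega))
      · simp
    · simp
  · refine Finset.sum_eq_zero fun l _ => ?_
    split_ifs with h'
    · rw [Module.Basis.repr_self, Finsupp.single_apply, if_neg, mul_zero]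
      intro e
      have := congrArg Fin.val e
      simp at this
      omega
    · simp

theorem repr_map {A : Module.End k H} (v : H) (j : Fin m) :
    K.b.repr (A v) j = ∑ l, K.b.repr v l * K.b.repr (A (K.b l)) j := by
  conv_lhs => rw [← K.b.sum_repr v, map_sum, map_sum, Finsupp.finsetSum_apply]
  simp

theorem co_mul {A B : Module.End k H} (hA : D * A = A * D) (h1 : 1 < m) :
    K.co 0 (A * B) = K.co 0 A * K.co 0 B ∧
      K.co 1 (A * B) = K.co 0 A * K.co 1 B + K.co 1 A * K.co 0 B := by
  have h0 : 0 < m := by omega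
  constructor
  · conv_lhs => rw [co, dif_pos h0, Module.End.mul_apply, K.repr_map]
    simp only [K.repr_apply hA]
    rw [Finset.sum_eq_single (⟨0, h0⟩ : Fin m)]
    · rw [if_pos le_rfl, mul_comm]
      simp [co, h0]
    · intro l _ hl
      have : (l : ℕ) ≠ 0 := fun e => hl (Fin.ext e)
      rw [if_neg (by show ¬ (l : ℕ) ≤ 0; omega), mul_zero]
    · simp
  · conv_lhs => rw [co, dif_pos h1, Module.End.mul_apply, K.repr_map]
    simp only [K.repr_apply hA]
    rw [Finset.sum_eq_add (⟨1, h1⟩ : Fin m) (⟨0, h0⟩ : Fin m) (by simp)]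
    · rw [if_pos le_rfl, if_pos (Nat.zero_le _)]
      simp [co, h0, h1]
      ring
    · intro l _ hl
      have h2 : (l : ℕ) ≠ 0 := fun e => hl.2 (Fin.ext e)
      have h3 : (l : ℕ) ≠ 1 := fun e => hl.1 (Fin.ext e)
      rw [if_neg (by show ¬ (l : ℕ) ≤ 1; omega), mul_zero]
    · simp
    · simp

/-- The weights of the lowering operator. -/
def cw (i : ℕ) : k := (i : k) * ((m : k) - i)

/-- The lowering operator. -/
noncomputable def Y : Module.End k H :=
  K.b.constr k fun i => if h : (i : ℕ) = 0 then 0 else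
    cw (k := k) (m := m) (i : ℕ) • K.b ⟨i - 1, by omega⟩

theorem Y_apply (i : Fin m) :
    K.Y (K.b i) = if h : (i : ℕ) = 0 then 0 else cw (k := k) (m := m) (i : ℕ) • K.b ⟨i - 1, by omega⟩ :=
  K.b.constr_basis k _ i

theorem DY_sub (i : Fin m) :
    (D * K.Y - K.Y * D) (K.b i) = ((2 : k) * (i : ℕ) + 1 - m) • K.b i := by
  rw [LinearMap.sub_apply, Module.End.mul_apply, Module.End.mul_apply, K.Y_apply]
  have h1 : D (dite ((i : ℕ) = 0) (fun _ => (0 : H)) fun _ => cw (k := k) (m := m) (i : ℕ) • K.b ⟨i - 1, by omega⟩) =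
      cw (k := k) (m := m) (i : ℕ) • K.b i := by
    split_ifs with h
    · simp [cw, h]
    · rw [map_smul, K.step _ (by show (i : ℕ) - 1 + 1 < m; omega)]
      congr 2
      exact Fin.ext (by show (i : ℕ) - 1 + 1 = i; omega)
  have h2 : K.Y (D (K.b i)) = cw (k := k) (m := m) ((i : ℕ) + 1) • K.b i := by
    rcases Nat.lt_or_ge ((i : ℕ) + 1) m with h | h
    · rw [K.step i h, K.Y_apply, dif_neg (by simp)]
      rfl
    · have e : (i : ℕ) + 1 = m := by omega
      rw [K.last i e, map_zero, cw, e, sub_self, mul_zero, zero_smul]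
  rw [h1, h2, ← sub_smul]
  congr 1
  simp only [cw]
  push_cast
  ring

theorem D_DY : D * (D * K.Y - K.Y * D) - (D * K.Y - K.Y * D) * D = (-2 : k) • D := by
  refine K.b.ext fun i => ?_
  rw [LinearMap.sub_apply, Module.End.mul_apply, K.DY_sub, map_smul, Module.End.mul_apply,
    LinearMap.smul_apply]
  rcases Nat.lt_or_ge ((i : ℕ) + 1) m with h | h
  · rw [K.step i h, K.DY_sub, ← sub_smul]
    congr 1
    push_cast
    ring
  · rw [K.last i (by omega), map_zero, smul_zero, smul_zero, sub_zero]

/-- The sum of the weights. -/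
noncomputable def wsum : k := ∑ i : Fin m, cw (k := k) (m := m) (i : ℕ)

theorem wsum_eq : (6 : k) * wsum (k := k) (m := m) = ((m : k) - 1) * m * (m + 1) := by
  have key : ∀ (n : ℕ) (c : k), (6 : k) * ∑ i ∈ Finset.range n, (i : k) * (c - i) =
      3 * c * n * ((n : k) - 1) - n * ((n : k) - 1) * (2 * n - 1) := by
    intro n c
    induction n with
    | zero => simp
    | succ n ih =>
      rw [Finset.sum_range_succ, mul_add, ih]
      push_cast
      ring
  rw [wsum, Fin.sum_univ_eq_sum_range (fun i => cw (k := k) (m := m) i)]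
  simp only [cw]
  rw [key]
  ring

theorem repr_Y (v : H) (i : Fin m) : K.b.repr (K.Y v) i =
    if h : (i : ℕ) + 1 < m then cw (k := k) (m := m) ((i : ℕ) + 1) * K.b.repr v ⟨i + 1, h⟩ else 0 := by
  rw [K.repr_map]
  simp only [K.Y_apply]
  split_ifs with h
  · rw [Finset.sum_eq_single (⟨(i : ℕ) + 1, h⟩ : Fin m)]
    · rw [dif_neg (by simp), map_smul, Finsupp.smul_apply, Module.Basis.repr_self,
        Finsupp.single_apply, if_pos (Fin.ext (by simp)), smul_eq_mul, mul_one, mul_comm]
    · intro l _ hl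
      split_ifs with h'
      · simp
      · rw [map_smul, Finsupp.smul_apply, Module.Basis.repr_self, Finsupp.single_apply, if_neg,
          smul_zero, mul_zero]
        intro e
        have := congrArg Fin.val e
        exact hl (Fin.ext (by simp at this ⊢; omega))
    · simp
  · refine Finset.sum_eq_zero fun l _ => ?_
    split_ifs with h'
    · simp
    · rw [map_smul, Finsupp.smul_apply, Module.Basis.repr_self, Finsupp.single_apply, if_neg,
        smul_zero, mul_zero]
      intro e
      have := congrArg Fin.val e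
      simp at this
      omega

theorem trace_Y_mul {A : Module.End k H} (hA : D * A = A * D) :
    LinearMap.trace k H (K.Y * A) = wsum (k := k) (m := m) * K.co 1 A := by
  rw [LinearMap.trace_eq_matrix_trace k K.b, Matrix.trace]
  have e : ∀ i : Fin m, (LinearMap.toMatrix K.b K.b (K.Y * A)).diag i =
      cw (k := k) (m := m) ((i : ℕ) + 1) * K.co 1 A := by
    intro i
    rw [Matrix.diag, LinearMap.toMatrix_apply, Module.End.mul_apply, K.repr_Y]
    split_ifs with h
    · rw [K.repr_apply hA, if_pos (by simp)]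
      simp
    · rw [cw, show (i : ℕ) + 1 = m by omega, sub_self, mul_zero, zero_mul]
  rw [Finset.sum_congr rfl fun i _ => e i, ← Finset.sum_mul]
  congr 1
  rw [wsum, Fin.sum_univ_eq_sum_range (fun i => cw (k := k) (m := m) (i + 1)),
    Fin.sum_univ_eq_sum_range (fun i => cw (k := k) (m := m) i)]
  have h1 := Finset.sum_range_succ (fun i => cw (k := k) (m := m) i) m
  rw [Finset.sum_range_succ', show cw (k := k) (m := m) 0 = 0 by simp [cw],
    show cw (k := k) (m := m) m = 0 by simp [cw], add_zero, add_zero] at h1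
  exact h1

theorem trace_comm {A : Module.End k H} (hA : D * A = A * D) :
    LinearMap.trace k H A = (m : k) * K.co 0 A := by
  have h0 : 0 < m := Nat.pos_of_ne_zero hm.out
  haveI : Module.Finite k H := Module.Finite.of_basis K.b
  conv_lhs => rw [K.eq_sum hA, map_sum]
  rw [Finset.sum_eq_single (⟨0, h0⟩ : Fin m)]
  · rw [map_smul, pow_zero, LinearMap.trace_one, Module.finrank_eq_card_basis K.b, Fintype.card_fin,
      smul_eq_mul, mul_comm]
  · intro j _ hj
    have hj0 : (j : ℕ) ≠ 0 := fun e => hj (Fin.ext e)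
    rw [map_smul, LinearMap.trace_eq_matrix_trace k K.b, Matrix.trace,
      Finset.sum_eq_zero fun i _ => ?_, smul_zero]
    rw [Matrix.diag, LinearMap.toMatrix_apply, K.pow_apply]
    split_ifs with h
    · rw [Module.Basis.repr_self, Finsupp.single_eq_of_ne']
      intro e
      have := congrArg Fin.val e
      simp only at this
      omega
    · rw [map_zero]; rfl
  · simp

end Chain

end Cfsg.Agent.Blocks.SmallDim
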