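import Cfsg.Agent.Lib.Blocks.SmallDim.Transfer
import Cfsg.Agent.Lib.Blocks.SmallDim.Chain
import Mathlib.RingTheory.Artinian.Module

/-!
# The three-dimensional orthogonal module inside the endomorphisms of a small modular representation

If `x` of order `p` acts with a single block of size at most `p / 2`, the transfer of the projection
to the logarithm of `x` cuts out a three-dimensional invariant subspace of the endomorphisms on
which the trace form is nondegenerate.
-/

set_option autoImplicit false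
set_option linter.unusedSectionVars false

namespace Cfsg.Agent.Blocks.SmallDim

universe u v w

variable {k : Type v} [Field k] {p : ℕ} [hp : Fact p.Prime] [CharP k p]
variable {G : Type u} [Group G] [Finite G] {H : Type w} [AddCommGroup H] [Module k H]

/-- The form `z₀ z₂ - z₁²`. -/
def Qc {k : Type v} [Field k] (z : Fin 3 → k) : k := z 0 * z 2 - z 1 ^ 2

section Ops

variable (π : Representation k G H) (x : G)

/-- The shifted action of `x` on endomorphisms. -/
noncomputable def opT : Module.End k (Module.End k H) := π.linHom π x - 1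

theorem linHom_mul (g : G) (A : Module.End k H) : π.linHom π g A = π g * (A * π g⁻¹) := rfl

theorem linHom_mul_distrib (g : G) (A C : Module.End k H) :
    π.linHom π g (A * C) = π.linHom π g A * π.linHom π g C := by
  simp only [linHom_mul, mul_assoc]
  rw [← mul_assoc (π g⁻¹) (π g), ← map_mul, inv_mul_cancel, map_one, one_mul]

theorem linHom_one (g : G) : π.linHom π g 1 = 1 := by
  rw [linHom_mul, one_mul, ← map_mul, mul_inv_cancel, map_one]

theorem linHom_pow (g : G) (A : Module.End k H) (j : ℕ) :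
    π.linHom π g (A ^ j) = (π.linHom π g A) ^ j := by
  induction j with
  | zero => rw [pow_zero, pow_zero, linHom_one]
  | succ j ih => rw [pow_succ, pow_succ, linHom_mul_distrib, ih]

theorem trace_linHom (g : G) (A C : Module.End k H) :
    LinearMap.trace k H (π.linHom π g A * C) = LinearMap.trace k H (A * π.linHom π g⁻¹ C) := by
  rw [linHom_mul, linHom_mul, inv_inv, mul_assoc, LinearMap.trace_mul_comm]
  simp only [mul_assoc]

theorem opT_apply (A : Module.End k H) :
    opT π x A = ((π x - 1) * A - A * (π x - 1)) * π x⁻¹ := by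
  show π x * (A * π x⁻¹) - A = _
  rw [sub_mul, sub_mul, one_mul, mul_sub, mul_one, sub_mul, sub_mul, mul_assoc A (π x), ← map_mul,
    mul_inv_cancel, map_one, mul_one, mul_assoc]
  abel

theorem opT_mul_right {c : Module.End k H} (hc : π x * c = c * π x) (A : Module.End k H) :
    opT π x (A * c) = opT π x A * c := by
  have h : π x⁻¹ * c = c * π x⁻¹ := by
    calc π x⁻¹ * c = π x⁻¹ * (c * π x) * π x⁻¹ := by
          rw [mul_assoc, mul_assoc, ← map_mul π x, mul_inv_cancel, map_one, mul_one]
      _ = c * π x⁻¹ := by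
          rw [← hc, ← mul_assoc (π x⁻¹), ← map_mul, inv_mul_cancel, map_one, one_mul]
  show π x * (A * c * π x⁻¹) - A * c = (π x * (A * π x⁻¹) - A) * c
  rw [sub_mul, mul_assoc A c, ← h]
  simp only [mul_assoc]

theorem opT_fixed {A : Module.End k H} : opT π x A = 0 ↔ π x * A = A * π x := by
  rw [opT_apply]
  constructor
  · intro h
    have := congrArg (· * π x) h
    simp only [mul_assoc, ← map_mul, inv_mul_cancel, map_one, mul_one, zero_mul, sub_mul, mul_sub,
      one_mul] at this
    rw [sub_sub_sub_cancel_right, sub_eq_zero] at this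
    exact this
  · intro h
    rw [sub_mul (π x) 1, mul_sub, one_mul, mul_one, h, sub_self, zero_mul]

theorem trace_opT (A C : Module.End k H) :
    LinearMap.trace k H (opT π x A * C) =
      -LinearMap.trace k H (A * π.linHom π x⁻¹ (opT π x C)) := by
  have e : π.linHom π x⁻¹ (π.linHom π x C) = C := by
    rw [← Module.End.mul_apply, ← map_mul, inv_mul_cancel, map_one, Module.End.one_apply]
  show LinearMap.trace k H ((π.linHom π x A - A) * C) = -LinearMap.trace k H
    (A * π.linHom π x⁻¹ (π.linHom π x C - C))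
  rw [sub_mul, map_sub, trace_linHom, map_sub (π.linHom π x⁻¹), e, mul_sub, map_sub, neg_sub]

theorem commute_opT (g : G) (hg : Commute x g) : Commute (opT π x) (π.linHom π g) :=
  (hg.map (π.linHom π)).sub_left (Commute.one_left _)

end Ops

/-- The three-dimensional orthogonal representation. -/
theorem exists_adjoint [IsAlgClosed k] [FiniteDimensional k H] [Nontrivial H]
    (π : Representation k G H) {x : G} (hx : orderOf x = p) (hsq : ¬ p ^ 2 ∣ Nat.card G) {s : ℕ}
    (hs : (π x - 1) ^ s = 0) (h2 : 2 * s ≤ p)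
    (hidem : ∀ e : Module.End k H, π x * e = e * π x → e * e = e → e = 0 ∨ e = 1)
    (hne : π x ≠ 1) :
    ∃ σ : Representation k G (Fin 3 → k), σ x ≠ 1 ∧ ∀ g z, Qc (σ g z) = Qc z := by
  classical
  obtain ⟨m, hms, hm1, ⟨K⟩⟩ := exists_chain (π x - 1) hs fun e he hee => hidem e (by
    rw [sub_mul, mul_sub, one_mul, mul_one, sub_left_inj] at he; exact he) hee
  haveI : NeZero m := ⟨by omega⟩
  have hm : 1 < m := by
    by_contra h
    refine hne (sub_eq_zero.mp ?_)
    have := K.pow_eq_zero (j := 1) (by omega)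
    rwa [pow_one] at this
  have hp5 : 2 * m ≤ p := by omega
  have hpodd : p ≠ 2 := by omega
  have h20 : (2 : k) ≠ 0 := fun h => hpodd (by
    have h' : ((2 : ℕ) : k) = 0 := by simpa using h
    rw [CharP.cast_eq_zero_iff k p] at h'
    exact (Nat.prime_dvd_prime_iff_eq hp.out Nat.prime_two).mp h')
  have hw : Chain.wsum (k := k) (m := m) ≠ 0 := by
    intro h
    have e := Chain.wsum_eq (k := k) (m := m)
    rw [h, mul_zero] at e
    have h' : (((m - 1) * m * (m + 1) : ℕ) : k) = 0 := by
      rw [Nat.cast_mul, Nat.cast_mul, Nat.cast_sub hm1]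
      push_cast
      exact e.symm
    rw [CharP.cast_eq_zero_iff k p] at h'
    rcases hp.out.dvd_mul.mp h' with h1 | h1
    · rcases hp.out.dvd_mul.mp h1 with h3 | h3
      · have := Nat.le_of_dvd (by omega) h3
        omega
      · have := Nat.le_of_dvd (by omega) h3
        omega
    · have := Nat.le_of_dvd (by omega) h1
      omega
  set D := π x - 1 with hD
  set X := π x with hX
  have hXX : X * π x⁻¹ = 1 := by rw [hX, ← map_mul, mul_inv_cancel, map_one]
  have hX'X : π x⁻¹ * X = 1 := by rw [hX, ← map_mul, inv_mul_cancel, map_one]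
  have hDX : Commute D X := (Commute.refl X).sub_left (Commute.one_left X)
  have hDX' : Commute D (π x⁻¹) :=
    (show Commute X (π x⁻¹) from hXX.trans hX'X.symm).sub_left (Commute.one_left _)
  have hXD : ∀ {A : Module.End k H}, Commute D A → X * A = A * X := fun {A} h => by
    have h' : (X - 1) * A = A * (X - 1) := h
    rw [sub_mul, mul_sub, one_mul, mul_one, sub_left_inj] at h'
    exact h'
  have hDofX : ∀ {A : Module.End k H}, X * A = A * X → Commute D A := fun {A} h =>
    (show Commute X A from h).sub_left (Commute.one_left A)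
  -- coefficients of powers of `X`
  have hc01 : K.co 0 (1 : Module.End k H) = 1 ∧ K.co 1 (1 : Module.End k H) = 0 := by
    refine ⟨?_, ?_⟩
    · rw [← pow_zero D, K.co_pow 0 0 (by omega), if_pos rfl]
    · rw [← pow_zero D, K.co_pow 0 1 hm, if_neg one_ne_zero]
  have hcX : ∀ j : ℕ, K.co 0 (X ^ j) = 1 ∧ K.co 1 (X ^ j) = (j : k) := by
    intro j
    induction j with
    | zero => simpa using hc01
    | succ j ih =>
      have hX01 : K.co 0 X = 1 ∧ K.co 1 X = 1 := by
        have e : X = D ^ 1 + 1 := by rw [pow_one, hD, sub_add_cancel]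
        rw [e, K.co_add, K.co_add, K.co_pow 1 0 (by omega), K.co_pow 1 1 hm, hc01.1, hc01.2]
        simp
      obtain ⟨e0, e1⟩ := K.co_mul (A := X ^ j) (B := X) (hDX.pow_right j).eq hm
      rw [pow_succ, e0, e1, ih.1, ih.2, hX01.1, hX01.2]
      push_cast
      constructor <;> ring
  -- the logarithm
  set ι : ZMod p →+* k := ZMod.castHom dvd_rfl k
  have hιval : ∀ r : ZMod p, ι r = (r.val : k) := fun r => by
    conv_lhs => rw [← ZMod.natCast_zmod_val r]
    rw [map_natCast]
  have hιne : ∀ r : (ZMod p)ˣ, ι r ≠ 0 := fun r => (map_ne_zero ι).mpr r.ne_zero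
  have hunits : ((Fintype.card (ZMod p)ˣ : ℕ) : k) = -1 := by
    rw [ZMod.card_units, Nat.cast_sub hp.out.one_lt.le, CharP.cast_eq_zero, Nat.cast_one, zero_sub]
  set gg : Module.End k H := -∑ r : (ZMod p)ˣ, (ι r)⁻¹ • ∑ j ∈ Finset.range (r : ZMod p).val, X ^ j
    with hgg
  set L : Module.End k H := -∑ r : (ZMod p)ˣ, (ι r)⁻¹ • (X ^ (r : ZMod p).val - 1) with hL
  have hgD : Commute D gg := (Commute.sum_right _ _ _ fun r _ =>
    (Commute.sum_right _ _ _ fun j _ => hDX.pow_right j).smul_right _).neg_right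
  have hLg : D * gg = L := by
    rw [hgg, hL, mul_neg, Finset.mul_sum]
    refine congrArg _ (Finset.sum_congr rfl fun r _ => ?_)
    rw [mul_smul_comm, mul_geom_sum]
  have hLD : Commute D L := hLg ▸ (Commute.refl D).mul_right hgD
  have hneg : ∀ (A : Module.End k H) (j : ℕ), K.co j (-A) = -K.co j A := fun A j => by
    rw [← neg_one_smul k A, K.co_smul, neg_one_mul]
  have hg0 : K.co 0 gg = 1 := by
    rw [hgg, hneg, K.co_sum, Finset.sum_congr rfl fun r _ => (show _ = (1 : k) by
      rw [K.co_smul, K.co_sum, Finset.sum_congr rfl fun j _ => (hcX j).1, Finset.sum_const,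
        Finset.card_range, nsmul_eq_mul, mul_one, ← hιval, inv_mul_cancel₀ (hιne r)]),
      Finset.sum_const, Finset.card_univ, nsmul_eq_mul, mul_one, hunits, neg_neg]
  have hL1 : K.co 1 L = 1 ∧ K.co 0 L = 0 := by
    refine ⟨?_, ?_⟩
    · rw [hL, hneg, K.co_sum, Finset.sum_congr rfl fun r _ => (show _ = (1 : k) by
        rw [K.co_smul, K.co_sub, (hcX _).2, hc01.2, sub_zero, ← hιval, inv_mul_cancel₀ (hιne r)]),
        Finset.sum_const, Finset.card_univ, nsmul_eq_mul, mul_one, hunits, neg_neg]
    · rw [hL, hneg, K.co_sum, Finset.sum_eq_zero fun r _ => by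
        rw [K.co_smul, K.co_sub, (hcX _).1, hc01.1, sub_self, mul_zero], neg_zero]
  -- `L` is twice shifted from `B`
  set s0 : Module.End k H := (-(2 : k)⁻¹) • (X * X * gg) with hs0
  have hs0D : Commute D s0 := ((hDX.mul_right hDX).mul_right hgD).smul_right _
  set B : Module.End k H := K.Y * s0 with hB
  set T := opT π x with hT
  have hTfix : ∀ {A : Module.End k H}, Commute D A → T A = 0 := fun h => (opT_fixed π x).mpr (hXD h)
  have hTY2 : T (T K.Y) = ((-2 : k) • D) * π x⁻¹ * π x⁻¹ := by
    rw [hT, opT_apply π x K.Y, opT_mul_right π x (c := π x⁻¹) (hXX.trans hX'X.symm), opT_apply,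
      K.D_DY]
  have hT2B : T (T B) = L := by
    rw [hB, hT, opT_mul_right π x (hXD hs0D), opT_mul_right π x (hXD hs0D), ← hT, hTY2, hs0,
      ← hLg]
    simp only [smul_mul_assoc, mul_smul_comm, smul_smul]
    rw [show (-(2 : k)⁻¹) * (-2) = 1 by field_simp, one_smul]
    simp only [mul_assoc]
    rw [← mul_assoc (π x⁻¹) X (X * gg), hX'X, one_mul, ← mul_assoc (π x⁻¹) X gg, hX'X, one_mul]
  have hT3B : T (T (T B)) = 0 := by rw [hT2B]; exact hTfix hLD
  have hT3Y : T (T (T K.Y)) = 0 := by
    rw [hTY2]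
    exact hTfix ((((Commute.refl D).smul_right _).mul_right hDX').mul_right hDX')
  set μ : Module.End k H →ₗ[k] k :=
    (LinearMap.trace k H) ∘ₗ LinearMap.mulRight k K.Y with hμ
  have hμA : ∀ A, μ A = LinearMap.trace k H (A * K.Y) := fun A => rfl
  have hμfix : ∀ A, Commute D A → μ A = Chain.wsum (k := k) (m := m) * K.co 1 A := fun A h => by
    rw [hμA, LinearMap.trace_mul_comm, K.trace_Y_mul h.eq]
  have hμT3 : ∀ A, μ (T (T (T A))) = 0 := by
    intro A
    have hc : Commute T (π.linHom π x⁻¹) := commute_opT π x x⁻¹ ((Commute.refl x).inv_right)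
    have hTU : ∀ C, T (π.linHom π x⁻¹ C) = π.linHom π x⁻¹ (T C) :=
      fun C => LinearMap.congr_fun hc.eq C
    rw [hμA, hT, trace_opT, trace_opT, trace_opT, ← hT]
    simp only [hTU, hT3Y, map_zero, mul_zero, neg_zero]
  -- the projection to `L` commuting with `x`
  set c0 := (Chain.wsum (k := k) (m := m))⁻¹ with hc0
  set f0 : Module.End k (Module.End k H) := c0 • ((μ ∘ₗ T ∘ₗ T).smulRight B +
    (μ ∘ₗ T).smulRight (T B) + μ.smulRight L) with hf0
  have hf0T : Commute T f0 := by
    refine LinearMap.ext fun A => ?_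
    simp only [hf0, Module.End.mul_apply, LinearMap.smul_apply, LinearMap.add_apply,
      LinearMap.smulRight_apply, LinearMap.comp_apply, map_smul, map_add, hT2B, hTfix hLD, hμT3,
      zero_smul, zero_add, smul_zero, add_zero]
  have hf0fix : ∀ A, Commute D A → f0 A = K.co 1 A • L := by
    intro A hA
    simp only [hf0, LinearMap.smul_apply, LinearMap.add_apply, LinearMap.smulRight_apply,
      LinearMap.comp_apply, hTfix hA, map_zero, zero_smul, zero_add, hμfix A hA, smul_smul, hc0]
    rw [← mul_assoc, inv_mul_cancel₀ hw, one_mul]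
  -- averaging over the normalizer
  set P := Subgroup.zpowers x
  set Nm := Subgroup.normalizer (P : Set G)
  set P' := P.subgroupOf Nm
  haveI := Fintype.ofFinite (Nm ⧸ P')
  set ρ := π.linHom π with hρ
  have hρP : ∀ y ∈ P, Commute (ρ y) f0 := by
    intro y hy
    obtain ⟨i, rfl⟩ := (mem_powers_iff_mem_zpowers (x := x)).mpr hy
    show Commute (ρ (x ^ i)) f0
    rw [map_pow]
    refine Commute.pow_left ?_ i
    have e : ρ x = T + 1 := by rw [hT, opT, sub_add_cancel]
    rw [e]
    exact hf0T.add_left (Commute.one_left _)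
  have hρinv : ∀ g : G, ρ g * ρ g⁻¹ = 1 := fun g => by rw [← map_mul, mul_inv_cancel, map_one]
  set ff : Nm ⧸ P' → Module.End k (Module.End k H) := fun q =>
    ρ (q.out : G) * f0 * ρ (q.out : G)⁻¹ with hff
  have hffmk : ∀ r : Nm, ff (r : Nm ⧸ P') = ρ (r : G) * f0 * ρ (r : G)⁻¹ := by
    intro r
    obtain ⟨⟨y, hy⟩, e⟩ := QuotientGroup.mk_out_eq_mul P' r
    show ρ _ * f0 * ρ _⁻¹ = _
    rw [e]
    show ρ ((r : G) * y) * f0 * ρ ((r : G) * y)⁻¹ = _
    rw [mul_inv_rev, map_mul, map_mul, mul_assoc (ρ (r : G)), (hρP _ (Subgroup.mem_subgroupOf.mp hy)).eq,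
      ← mul_assoc (ρ (r : G)) f0, mul_assoc (ρ (r : G) * f0), ← mul_assoc (ρ (y : G)), hρinv, one_mul]
  set cN := (Nat.card (Nm ⧸ P') : k) with hcN
  have hcN0 : cN ≠ 0 := by
    rw [hcN, Ne, CharP.cast_eq_zero_iff k p]
    intro hd
    apply hsq
    refine dvd_trans ?_ (Subgroup.card_subgroup_dvd_card Nm)
    rw [← P'.card_mul_index, Subgroup.index_eq_card,
      Nat.card_congr (Subgroup.subgroupOfEquivOfLe (Subgroup.le_normalizer (H := P))).toEquiv,
      Nat.card_zpowers, hx, sq]
    exact mul_dvd_mul_left p hd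
  set f := cN⁻¹ • ∑ q, ff q with hf
  have hfN : ∀ n ∈ Nm, ρ n * f = f * ρ n := by
    intro n hn
    have e : ρ n * (∑ q, ff q) * ρ n⁻¹ = ∑ q, ff q := by
      rw [Finset.mul_sum, Finset.sum_mul]
      refine Fintype.sum_equiv (MulAction.toPerm (⟨n, hn⟩ : Nm)) _ _ fun q => ?_
      induction q using QuotientGroup.induction_on with
      | _ r =>
        show _ = ff (((⟨n, hn⟩ : Nm) * r : Nm) : Nm ⧸ P')
        rw [hffmk, hffmk, Subgroup.coe_mul, mul_inv_rev, map_mul, map_mul]
        simp only [mul_assoc]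
    rw [hf, mul_smul_comm, smul_mul_assoc]
    congr 1
    conv_rhs => rw [← e]
    rw [mul_assoc, ← map_mul, inv_mul_cancel, map_one, mul_one]
  -- the normalizer multiplies the coefficient of `D`
  have hweight : ∀ n ∈ Nm, ∃ a : (ZMod p)ˣ, ρ n L = ι a • L ∧ ∀ A, Commute D A →
      Commute D (ρ n A) ∧ K.co 1 (ρ n A) = ι a * K.co 1 A := by
    intro n hn
    obtain ⟨a, ha⟩ : ∃ a : ℕ, x ^ a = n * x * n⁻¹ := by
      have h1 : n * x * n⁻¹ ∈ P := (Subgroup.mem_normalizer_iff.mp hn x).mp (Subgroup.mem_zpowers x)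
      exact (mem_powers_iff_mem_zpowers).mpr h1
    have haU : (a : ZMod p) ≠ 0 := by
      intro h
      obtain ⟨t, rfl⟩ := (CharP.cast_eq_zero_iff (ZMod p) p a).mp h
      rw [pow_mul, ← hx, pow_orderOf_eq_one, one_pow, eq_comm, mul_inv_eq_one] at ha
      have hx1 : x = 1 := mul_left_cancel (ha.trans (mul_one n).symm)
      rw [hx1, orderOf_one] at hx
      exact hp.out.one_lt.ne hx
    refine ⟨Units.mk0 (a : ZMod p) haU, ?_⟩
    have hXn : ρ n X = X ^ a := by
      rw [hρ, linHom_mul, hX, ← map_mul, ← map_mul, ← mul_assoc, ← ha, map_pow]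
    have hXpow : ∀ i j : ℕ, (i : ZMod p) = (j : ZMod p) → X ^ i = X ^ j := by
      intro i j h
      have h1 : X ^ p = 1 := by rw [hX, ← map_pow, ← hx, pow_orderOf_eq_one, map_one]
      rw [pow_eq_pow_mod i h1, pow_eq_pow_mod j h1, (ZMod.natCast_eq_natCast_iff' i j p).mp h]
    refine ⟨?_, fun A hA => ?_⟩
    · rw [hL, map_neg, map_sum, smul_neg, Finset.smul_sum]
      refine congrArg _ (Fintype.sum_equiv (Equiv.mulLeft (Units.mk0 (a : ZMod p) haU)) _ _ fun r => ?_)
      have e2 : ρ n (1 : Module.End k H) = 1 := linHom_one π n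
      rw [map_smul, map_sub, e2, hρ, linHom_pow, ← hρ, hXn, ← pow_mul, smul_smul,
        Equiv.coe_mulLeft, Units.val_mul, Units.val_mk0, map_mul, mul_inv, ← mul_assoc,
        mul_inv_cancel₀ ((map_ne_zero ι).mpr haU), one_mul]
      rw [hXpow (a * (r : ZMod p).val) ((a : ZMod p) * r).val (by
        rw [ZMod.natCast_zmod_val, Nat.cast_mul, ZMod.natCast_zmod_val])]
    · have hD' : ρ n D = X ^ a - 1 := by rw [hD, map_sub, linHom_one π n, hXn]
      have hcD : Commute D (X ^ a - 1) := (hDX.pow_right a).sub_right (Commute.one_right _)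
      have hco0 : K.co 0 (X ^ a - 1) = 0 := by rw [K.co_sub, (hcX a).1, hc01.1, sub_self]
      have hco1 : K.co 1 (X ^ a - 1) = (a : k) := by rw [K.co_sub, (hcX a).2, hc01.2, sub_zero]
      have hpow : ∀ j : ℕ, K.co 0 ((X ^ a - 1) ^ (j + 1)) = 0 ∧
          K.co 1 ((X ^ a - 1) ^ (j + 1)) = if j = 0 then (a : k) else 0 := by
        intro j
        induction j with
        | zero => rw [pow_one, hco0, hco1, if_pos rfl]; exact ⟨rfl, rfl⟩
        | succ j ih =>
          obtain ⟨e0, e1⟩ := K.co_mul (A := (X ^ a - 1) ^ (j + 1)) (B := X ^ a - 1)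
            (hcD.pow_right (j + 1)).eq hm
          rw [pow_succ (n := j + 1), e0, e1, ih.1, hco0, if_neg (Nat.succ_ne_zero j)]
          simp
      have e : ρ n A = ∑ j : Fin m, K.co j A • (X ^ a - 1) ^ (j : ℕ) := by
        conv_lhs => rw [K.eq_sum hA.eq, map_sum]
        refine Finset.sum_congr rfl fun j _ => ?_
        rw [map_smul, hρ, linHom_pow, ← hρ, hD']
      refine ⟨e ▸ Commute.sum_right _ _ _ fun j _ => (hcD.pow_right _).smul_right _, ?_⟩
      rw [e, K.co_sum, Finset.sum_eq_single (⟨1, hm⟩ : Fin m)]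
      · rw [K.co_smul]
        show K.co 1 A * K.co 1 ((X ^ a - 1) ^ 1) = _
        rw [pow_one, hco1, Units.val_mk0, map_natCast, mul_comm]
      · intro j _ hj
        rw [K.co_smul]
        rcases Nat.eq_zero_or_pos (j : ℕ) with h | h
        · rw [h, pow_zero, hc01.2, mul_zero]
        · have hj1 : (j : ℕ) ≠ 1 := fun e => hj (Fin.ext e)
          rw [show (j : ℕ) = ((j : ℕ) - 1) + 1 by omega, (hpow _).2, if_neg (by omega), mul_zero]
      · simp
  have hffix : ∀ A, Commute D A → f A = K.co 1 A • L := by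
    intro A hA
    rw [hf, LinearMap.smul_apply, LinearMap.sum_apply,
      Finset.sum_congr rfl fun q _ => (show ff q A = K.co 1 A • L by
        obtain ⟨a, haL, haA⟩ := hweight _ q.out.2
        obtain ⟨b, -, hbA⟩ := hweight _ (Nm.inv_mem q.out.2)
        obtain ⟨hc, -⟩ := hbA A hA
        show ρ (q.out : G) (f0 (ρ (q.out : G)⁻¹ A)) = _
        have e := (haA _ hc).2
        rw [← Module.End.mul_apply (ρ (q.out : G)) (ρ (q.out : G)⁻¹), hρinv, Module.End.one_apply] at e
        rw [hf0fix _ hc, map_smul, haL, smul_smul, e, mul_comm]),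
      Finset.sum_const, Finset.card_univ, ← Nat.card_eq_fintype_card, ← Nat.cast_smul_eq_nsmul k,
      ← hcN, inv_smul_smul₀ hcN0]
  have hTnil : (ρ x - 1) ^ (p - 1) = 0 := CT.SmallFaithful.linHom_sub_one_pow (p := p) π hs h2
  obtain ⟨F, hFg, hFfix⟩ := transfer ρ hx hsq hTnil f hfN
  have hfixD : ∀ {A : Module.End k H}, T A = 0 → Commute D A :=
    fun h => hDofX ((opT_fixed π x).mp h)
  have hFA : ∀ A, Commute D A → F A = K.co 1 A • L := fun A hA => by
    refine (hFfix A ?_).trans (hffix A hA)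
    have h := hTfix hA
    rw [hT, opT, LinearMap.sub_apply, Module.End.one_apply, sub_eq_zero] at h
    exact h
  -- Fitting decomposition
  obtain ⟨N, hN⟩ := Filter.eventually_atTop.mp F.eventually_isCompl_ker_pow_range_pow
  have hcomp := hN (N + 1) (Nat.le_succ N)
  have hFN : ∀ A, Commute D A → (F ^ (N + 1)) A = K.co 1 A • L := by
    intro A hA
    clear hcomp hN
    induction N with
    | zero => rw [pow_one]; exact hFA A hA
    | succ N ih => rw [pow_succ', Module.End.mul_apply, ih, map_smul, hFA L hLD, hL1.1, one_smul]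
  set W := LinearMap.range (F ^ (N + 1)) with hW
  have hLW : L ∈ W := ⟨L, by rw [hFN L hLD, hL1.1, one_smul]⟩
  have hWg : ∀ (g : G) {A}, A ∈ W → ρ g A ∈ W := by
    rintro g _ ⟨A, rfl⟩
    exact ⟨ρ g A, (LinearMap.congr_fun ((show Commute (ρ g) F from hFg g).pow_right (N + 1)).eq A).symm⟩
  have hFT : Commute T (F ^ (N + 1)) :=
    ((show Commute (ρ x) F from hFg x).sub_left (Commute.one_left F)).pow_right _
  have hWT : ∀ {A}, A ∈ W → T A ∈ W := fun {A} h => W.sub_mem (hWg x h) h
  have hWfix : ∀ A ∈ W, T A = 0 → A = K.co 1 A • L := by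
    intro A hA h0
    rw [← sub_eq_zero]
    refine Submodule.disjoint_def.mp hcomp.disjoint _ ?_ (W.sub_mem hA (W.smul_mem _ hLW))
    rw [LinearMap.mem_ker, map_sub, map_smul, hFN A (hfixD h0), hFN L hLD, hL1.1, one_smul, sub_self]
  obtain ⟨z, hz, w, hwW, hzw⟩ := Submodule.mem_sup.mp
    (hcomp.sup_eq_top ▸ Submodule.mem_top : B ∈ LinearMap.ker (F ^ (N + 1)) ⊔ W)
  have hTTz : T (T z) = 0 := by
    refine Submodule.disjoint_def.mp hcomp.disjoint _ ?_ ?_
    · rw [LinearMap.mem_ker, ← Module.End.mul_apply, ← hFT.eq, Module.End.mul_apply,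
        ← Module.End.mul_apply (F ^ (N + 1)) T, ← hFT.eq, Module.End.mul_apply,
        LinearMap.mem_ker.mp hz, map_zero, map_zero]
    · have e : T (T z) = L - T (T w) := by rw [← hT2B, ← hzw, map_add, map_add, add_sub_cancel_right]
      rw [e]
      exact W.sub_mem hLW (hWT (hWT hwW))
  have hTTw : T (T w) = L := by rw [← hT2B, ← hzw, map_add, map_add, hTTz, zero_add]
  set t := T w with ht
  have htW : t ∈ W := hWT hwW
  have hspan : ∀ A ∈ W, ∃ a b c : k, A = a • w + b • t + c • L := by
    intro A hA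
    have hA3 : T (T (T A)) = 0 := by
      have key : ∀ j : ℕ, ∀ C ∈ W, (T ^ j) (T (T (T C))) = 0 → T (T (T C)) = 0 := by
        intro j
        induction j with
        | zero => intro C _ h; simpa using h
        | succ j ih =>
          intro C hC h
          have h' : T (T (T (T C))) = 0 := by
            refine ih (T C) (hWT hC) ?_
            rwa [pow_succ, Module.End.mul_apply] at h
          have e := hWfix _ (hWT (hWT (hWT hC))) h'
          have e2 := hμT3 C
          rw [e, map_smul, hμfix L hLD, hL1.1, mul_one, smul_eq_mul] at e2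
          rw [e, (mul_eq_zero.mp e2).resolve_right hw, zero_smul]
      refine key (p - 1) A hA ?_
      rw [hT, opT, ← hρ, hTnil, LinearMap.zero_apply]
    obtain ⟨a, ha⟩ : ∃ a : k, T (T A) = a • L := ⟨_, hWfix _ (hWT (hWT hA)) hA3⟩
    have h1 : T (T (A - a • w)) = 0 := by rw [map_sub, map_sub, map_smul, map_smul, hTTw, ha, sub_self]
    obtain ⟨b, hb⟩ : ∃ b : k, T (A - a • w) = b • L :=
      ⟨_, hWfix _ (hWT (W.sub_mem hA (W.smul_mem _ hwW))) h1⟩
    have h3 : T (A - a • w - b • t) = 0 := by rw [map_sub, map_smul, hTTw, hb, sub_self]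
    refine ⟨a, b, K.co 1 (A - a • w - b • t), ?_⟩
    have := hWfix _ (W.sub_mem (W.sub_mem hA (W.smul_mem a hwW)) (W.smul_mem b htW)) h3
    rw [← this]
    abel
  -- the trace form on `W`
  set τ : Module.End k H → Module.End k H → k := fun A C => LinearMap.trace k H (A * C) with hτ
  have hτc : ∀ A C, τ A C = τ C A := fun A C => LinearMap.trace_mul_comm _ A C
  have hτLL : τ L L = 0 := by
    show LinearMap.trace k H (L * L) = 0
    rw [K.trace_comm (hLD.mul_right hLD).eq, (K.co_mul (A := L) (B := L) hLD.eq hm).1, hL1.2,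
      mul_zero, mul_zero]
  have hUfix : π.linHom π x⁻¹ L = L := by
    rw [linHom_mul, inv_inv, ← hX, ← hXD hLD, ← mul_assoc, hX'X, one_mul]
  have hτtL : τ t L = 0 := by
    show LinearMap.trace k H (opT π x w * L) = 0
    rw [trace_opT, ← hT, hTfix hLD, map_zero, mul_zero, map_zero, neg_zero]
  set c := τ w L with hc
  have hctt : τ t t = -c := by
    show LinearMap.trace k H (opT π x w * t) = _
    rw [trace_opT, ← hT, hTTw, hUfix]
  have hτzL : τ z L = 0 := by
    rw [hτc, ← hT2B]
    show LinearMap.trace k H (opT π x (opT π x B) * z) = 0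
    have hcm : Commute T (π.linHom π x⁻¹) := commute_opT π x x⁻¹ ((Commute.refl x).inv_right)
    rw [trace_opT, trace_opT, ← hT, ← Module.End.mul_apply T, hcm.eq, Module.End.mul_apply, hTTz,
      map_zero, map_zero, mul_zero, map_zero, neg_zero, neg_zero]
  have hc0' : c ≠ 0 := by
    have e : τ B L = τ z L + c := by
      rw [← hzw, hc]
      show LinearMap.trace k H ((z + w) * L) = _
      rw [add_mul, map_add]
    rw [hτzL, zero_add] at e
    rw [← e]
    show LinearMap.trace k H (K.Y * s0 * L) ≠ 0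
    rw [mul_assoc, K.trace_Y_mul (hs0D.mul_right hLD).eq, (K.co_mul (A := s0) (B := L) hs0D.eq hm).2,
      hL1.1, hL1.2, mul_zero, add_zero, mul_one, hs0, K.co_smul,
      (K.co_mul (A := X * X) (B := gg) (hDX.mul_right hDX).eq hm).1, ← pow_two, (hcX 2).1, hg0]
    simp [hw, h20]
  -- a normalised basis
  obtain ⟨γ, hγ⟩ := IsAlgClosed.exists_eq_mul_self (2 : k)
  have hγ0 : γ ≠ 0 := fun h => h20 (by rw [hγ, h, mul_zero])
  set al := -τ t w / c with hal
  set be := (τ w w - 2 * al * τ t w - al ^ 2 * c) / (2 * c) with hbe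
  set u2 := w - al • t - be • L with hu2
  let Φ : (Fin 3 → k) →ₗ[k] Module.End k H :=
    (LinearMap.proj 0).smulRight L + (LinearMap.proj 1).smulRight (γ • t) +
      (LinearMap.proj 2).smulRight u2
  have hΦ : ∀ y, Φ y = y 0 • L + y 1 • (γ • t) + y 2 • u2 := fun y => rfl
  have hform : ∀ y, τ (Φ y) (Φ y) = 2 * c * Qc y := by
    intro y
    have e1 : τ t w = -al * c := by rw [hal, neg_div, neg_neg, div_mul_cancel₀ _ hc0']
    have e2 : τ w w = 2 * al * τ t w + al ^ 2 * c + 2 * c * be := by
      rw [hbe]; field_simp; ring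
    rw [hΦ, hu2, Qc]
    simp only [τ, smul_sub, mul_add, add_mul, mul_sub, sub_mul, smul_mul_assoc, mul_smul_comm,
      smul_smul, map_add, map_sub, map_smul, smul_eq_mul]
    simp only [show ∀ A C, LinearMap.trace k H (A * C) = τ A C from fun _ _ => rfl]
    rw [hτLL, hτc L t, hτtL, hctt, hτc L w, ← hc, hτc w t, e1, e2, e1]
    linear_combination (y 1 * y 1 * c) * hγ
  have hinj : Function.Injective Φ := by
    rw [injective_iff_map_eq_zero]
    intro y hy
    rw [hΦ] at hy
    have hTL : T L = 0 := hTfix hLD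
    have hu2T : T u2 = t - al • L := by
      rw [hu2, map_sub, map_sub, map_smul, map_smul, hTTw, hTL, smul_zero, sub_zero]
    have hL0 : L ≠ 0 := fun h => hc0' (by
      show LinearMap.trace k H (w * L) = 0
      rw [h, mul_zero, map_zero])
    have h1 := congrArg T hy
    rw [map_add, map_add, map_smul, map_smul, map_smul, map_smul, map_zero, hTL, hTTw, hu2T,
      smul_zero, zero_add] at h1
    have h3 := congrArg T h1
    simp only [map_add, map_smul, map_sub, map_zero, hTL, hTTw, smul_zero, sub_zero, zero_add,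
      smul_eq_zero] at h3
    have y2 : y 2 = 0 := h3.resolve_right hL0
    rw [y2, zero_smul, add_zero, smul_eq_zero, smul_eq_zero] at h1
    have y1 : y 1 = 0 := h1.resolve_right fun h => h.elim hγ0 hL0
    rw [y1, y2, zero_smul, zero_smul, add_zero, add_zero, smul_eq_zero] at hy
    have y0 : y 0 = 0 := hy.resolve_right hL0
    funext i
    fin_cases i
    · exact y0
    · exact y1
    · exact y2
  have hrange : LinearMap.range Φ = W := by
    apply le_antisymm
    · rintro _ ⟨y, rfl⟩
      rw [hΦ]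
      exact W.add_mem (W.add_mem (W.smul_mem _ hLW) (W.smul_mem _ (W.smul_mem _ htW)))
        (W.smul_mem _ (W.sub_mem (W.sub_mem hwW (W.smul_mem _ htW)) (W.smul_mem _ hLW)))
    · intro A hA
      obtain ⟨a, b, d, rfl⟩ := hspan A hA
      refine ⟨![d + a * be, γ⁻¹ * (b + a * al), a], ?_⟩
      rw [hΦ, hu2]
      simp only [Matrix.cons_val_zero, Matrix.cons_val_one, Matrix.cons_val_two, Matrix.head_cons,
        Matrix.tail_cons, smul_sub, smul_smul]
      rw [mul_comm γ⁻¹, mul_assoc, inv_mul_cancel₀ hγ0, mul_one]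
      module
  set Φe := LinearEquiv.ofInjective Φ hinj
  have hmem : ∀ (g : G) (y : Fin 3 → k), ρ g (Φ y) ∈ LinearMap.range Φ := fun g y => by
    rw [hrange]; exact hWg g (hrange ▸ LinearMap.mem_range_self Φ y)
  let σl : G → Module.End k (Fin 3 → k) := fun g =>
    (Φe.symm : LinearMap.range Φ →ₗ[k] (Fin 3 → k)) ∘ₗ (ρ g ∘ₗ Φ).codRestrict _ (hmem g)
  have hσΦ : ∀ g y, Φ (σl g y) = ρ g (Φ y) := fun g y =>
    congrArg Subtype.val (Φe.apply_symm_apply _)
  let σ : Representation k G (Fin 3 → k) :=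
    { toFun := σl
      map_one' := LinearMap.ext fun y => hinj (by rw [hσΦ, map_one]; rfl)
      map_mul' := fun g h => LinearMap.ext fun y => hinj (by
        rw [hσΦ, map_mul, Module.End.mul_apply, Module.End.mul_apply, hσΦ, hσΦ]) }
  refine ⟨σ, fun h => ?_, fun g y => ?_⟩
  · have h1 := hσΦ x ![0, 1, 0]
    rw [show σl x = 1 from h, Module.End.one_apply] at h1
    have h3 : T (Φ ![0, 1, 0]) = 0 := by
      rw [hT, opT, LinearMap.sub_apply, Module.End.one_apply, ← hρ, ← h1, sub_self]
    rw [hΦ] at h3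
    simp only [Matrix.cons_val_zero, Matrix.cons_val_one, Matrix.cons_val_two, Matrix.head_cons,
      Matrix.tail_cons, zero_smul, one_smul, zero_add, add_zero, map_smul, hTTw, smul_eq_zero] at h3
    exact hc0' (by
      show LinearMap.trace k H (w * L) = 0
      rw [h3.resolve_left hγ0, mul_zero, map_zero])
  · refine mul_left_cancel₀ (mul_ne_zero h20 hc0') ?_
    rw [← hform, ← hform, show Φ (σ g y) = ρ g (Φ y) from hσΦ g y]
    show LinearMap.trace k H (π.linHom π g (Φ y) * π.linHom π g (Φ y)) = _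
    rw [trace_linHom, ← Module.End.mul_apply, ← map_mul, inv_mul_cancel, map_one, Module.End.one_apply]

end Cfsg.Agent.Blocks.SmallDim
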