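import Cfsg.Agent.Lib.CT.SmallFaithful.Main

/-!
# A faithful character of degree `(p - 1)/2` when the Sylow subgroup of order `p` is not normal

The character is irreducible, normal `p'`-subgroups of the group generated by the conjugates of an
element of order `p` are central, and that group is perfect.
-/

set_option autoImplicit false
set_option linter.unusedSectionVars false
set_option linter.style.haveILetI false

namespace Cfsg.Agent.Blocks.SmallDim

open scoped ComplexConjugate commutatorElement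
open CT

universe u

variable {p : ℕ} [hp : Fact p.Prime]

theorem mem_of_dvd {G : Type u} [Group G] [Finite G] (hsq : ¬ p ^ 2 ∣ Nat.card G) (N : Subgroup G)
    [N.Normal] (hd : p ∣ Nat.card N) {y : G} (hy : y ^ p = 1) : y ∈ N := by
  rw [← QuotientGroup.eq_one_iff]
  have h1 : orderOf ((y : G ⧸ N)) ∣ p :=
    orderOf_dvd_of_pow_eq_one (by rw [← QuotientGroup.mk_pow, hy, QuotientGroup.mk_one])
  rcases (Nat.dvd_prime hp.out).mp h1 with h | h
  · exact orderOf_eq_one_iff.mp h
  · refine absurd ?_ hsq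
    have h2 : p ∣ N.index := h ▸ orderOf_dvd_natCard (y : G ⧸ N)
    rw [← N.card_mul_index, pow_two]
    exact Nat.mul_dvd_mul hd h2

theorem dvd_card_of_mem {G : Type u} [Group G] {x : G} (hx : orderOf x = p) {N : Subgroup G}
    (h : x ∈ N) : p ∣ Nat.card N :=
  hx ▸ N.orderOf_dvd_natCard h

/-- A faithful character of degree `(p - 1)/2` is irreducible. -/
theorem irr_of_half {G : Type u} [Group G] [Fintype G] (hsq : ¬ p ^ 2 ∣ Nat.card G)
    (hdvd : p ∣ Nat.card G) (hnn : ∀ N : Subgroup G, N.Normal → Nat.card N ≠ p) {χ : G → ℂ}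
    (hχ : IsCharacter G χ) (hfaith : ∀ g : G, χ g = χ 1 → g = 1) (hdeg : 2 * deg χ + 1 = p) :
    IsIrrCharacter G χ := by
  classical
  have hsum := congrFun (character_eq_sum hχ) 1
  rw [deg_eq hχ, Finset.sum_apply] at hsum
  simp only [Pi.smul_apply, smul_eq_mul] at hsum
  rw [Finset.sum_congr rfl fun c _ => by rw [deg_eq (isCharacter_of_isIrr c.2)]] at hsum
  have hsum' : deg χ = ∑ c : IrrCharacter G, mult χ c * deg (c : G → ℂ) := by exact_mod_cast hsum
  by_cases hbig : ∃ ξ : IrrCharacter G, mult χ ξ ≠ 0 ∧ deg χ ≤ deg (ξ : G → ℂ)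
  · obtain ⟨ξ, hm, hle⟩ := hbig
    rw [← Finset.add_sum_erase _ _ (Finset.mem_univ ξ)] at hsum'
    have h1 : deg (ξ : G → ℂ) ≤ mult χ ξ * deg (ξ : G → ℂ) :=
      Nat.le_mul_of_pos_left _ (Nat.pos_of_ne_zero hm)
    have hz : ∑ c ∈ Finset.univ.erase ξ, mult χ c * deg (c : G → ℂ) = 0 := by omega
    have hm1 : mult χ ξ = 1 := by
      have h2 : mult χ ξ * deg (ξ : G → ℂ) = 1 * deg (ξ : G → ℂ) := by rw [one_mul]; omega
      exact Nat.eq_of_mul_eq_mul_right (deg_pos ξ.2) h2
    have e : χ = (ξ : G → ℂ) := by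
      rw [character_eq_sum hχ, Finset.sum_eq_single ξ (fun c _ hc => ?_) (by simp), hm1]
      · simp
      · have := (Finset.sum_eq_zero_iff.mp hz) c (Finset.mem_erase.mpr ⟨hc, Finset.mem_univ c⟩)
        rw [(mul_eq_zero.mp this).resolve_right (deg_pos c.2).ne']
        simp
    exact e ▸ ξ.2
  push Not at hbig
  exfalso
  obtain ⟨x, hx⟩ := exists_prime_orderOf_dvd_card' (G := G) p hdvd
  set L := Subgroup.normalClosure ({x} : Set G) with hLdef
  have hxL : x ∈ L := Subgroup.subset_normalClosure rfl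
  have key : ∀ a ∈ L, ∀ b ∈ L, χ ⁅a, b⁆ = χ 1 ∧ χ (a ^ p) = χ 1 := by
    intro a ha b hb
    suffices h : ∀ ξ : IrrCharacter G, mult χ ξ ≠ 0 →
        (ξ : G → ℂ) ⁅a, b⁆ = (ξ : G → ℂ) 1 ∧ (ξ : G → ℂ) (a ^ p) = (ξ : G → ℂ) 1 by
      constructor <;>
      · rw [congrFun (character_eq_sum hχ) _, congrFun (character_eq_sum hχ) 1]
        simp only [Finset.sum_apply, Pi.smul_apply, smul_eq_mul]
        refine Finset.sum_congr rfl fun ξ _ => ?_
        by_cases h0 : mult χ ξ = 0
        · rw [h0, Nat.cast_zero, zero_mul, zero_mul]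
        · first | rw [(h ξ h0).1] | rw [(h ξ h0).2]
    intro ξ hξ
    have hξc := isCharacter_of_isIrr ξ.2
    set K := kerChar (ξ : G → ℂ) with hKdef
    haveI : K.Normal := SmallFaithful.kerChar_normal ξ.2
    suffices h : ⁅a, b⁆ ∈ K ∧ a ^ p ∈ K from
      ⟨(mem_kerChar_iff hξc).mp h.1, (mem_kerChar_iff hξc).mp h.2⟩
    by_cases hxK : x ∈ K
    · have hLK : L ≤ K := Subgroup.normalClosure_le_normal (Set.singleton_subset_iff.mpr hxK)
      refine ⟨?_, K.pow_mem (hLK ha) p⟩
      rw [commutatorElement_def]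
      exact K.mul_mem (K.mul_mem (K.mul_mem (hLK ha) (hLK hb)) (K.inv_mem (hLK ha)))
        (K.inv_mem (hLK hb))
    obtain ⟨ω, hω, hωξ⟩ := exists_quotient_irr ξ.2 K fun k hk => (mem_kerChar_iff hξc).mp hk
    letI := Fintype.ofFinite (G ⧸ K)
    have hxq : orderOf (x : G ⧸ K) = p := by
      rcases (Nat.dvd_prime hp.out).mp (hx ▸ orderOf_map_dvd (QuotientGroup.mk' K) x) with h | h
      · exact absurd ((QuotientGroup.eq_one_iff x).mp (orderOf_eq_one_iff.mp h)) hxK
      · exact h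
    haveI := SmallFaithful.normal_zpowers (p := p) (Nat.card (G ⧸ K)) (G ⧸ K) le_rfl
      (fun h => hsq (h.trans (Subgroup.card_quotient_dvd_card K))) ω (isCharacter_of_isIrr hω)
      (fun q hq => by
        obtain ⟨g, rfl⟩ := QuotientGroup.mk_surjective q
        rw [hωξ, ← QuotientGroup.mk_one, hωξ] at hq
        exact (QuotientGroup.eq_one_iff g).mpr ((mem_kerChar_iff hξc).mpr hq))
      (by
        have h1 : deg ω = deg (ξ : G → ℂ) := by
          unfold deg
          rw [← hωξ 1, QuotientGroup.mk_one]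
        have h2 := hbig ξ hξ
        omega) (x : G ⧸ K) hxq
    have hle : L ≤ (Subgroup.zpowers (x : G ⧸ K)).comap (QuotientGroup.mk' K) :=
      Subgroup.normalClosure_le_normal (Set.singleton_subset_iff.mpr (Subgroup.mem_zpowers _))
    obtain ⟨i, hi⟩ := Subgroup.mem_zpowers_iff.mp (hle ha : (a : G ⧸ K) ∈ _)
    obtain ⟨j, hj⟩ := Subgroup.mem_zpowers_iff.mp (hle hb : (b : G ⧸ K) ∈ _)
    constructor
    · rw [← QuotientGroup.eq_one_iff]
      show QuotientGroup.mk' K ⁅a, b⁆ = 1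
      rw [map_commutatorElement, commutatorElement_eq_one_iff_mul_comm]
      show (a : G ⧸ K) * b = b * a
      rw [← hi, ← hj, ← zpow_add, ← zpow_add, add_comm]
    · rw [← QuotientGroup.eq_one_iff, QuotientGroup.mk_pow, ← hi, ← zpow_natCast, ← zpow_mul,
        mul_comm, zpow_mul, zpow_natCast, ← hxq, pow_orderOf_eq_one, one_zpow]
  have hLp : IsPGroup p L := fun a => ⟨1, Subtype.ext (by
    rw [pow_one, SubmonoidClass.coe_pow]
    exact hfaith _ (key a a.2 a a.2).2)⟩
  obtain ⟨j, hj⟩ := IsPGroup.iff_card.mp hLp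
  have h1 : p ∣ Nat.card L := dvd_card_of_mem hx hxL
  rcases Nat.lt_trichotomy j 1 with h | h | h
  · rw [hj, show j = 0 by omega, pow_zero] at h1
    exact hp.out.one_lt.ne' (Nat.dvd_one.mp h1)
  · rw [h, pow_one] at hj
    exact hnn L inferInstance hj
  · exact hsq ((pow_dvd_pow p h).trans (hj ▸ Subgroup.card_subgroup_dvd_card L))

/-- The subgroup generated by the conjugates of `x` has no normal subgroup of order `p` and is
generated by its own conjugates of `x`. -/
theorem closure_facts {G : Type u} [Group G] [Finite G] (hsq : ¬ p ^ 2 ∣ Nat.card G)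
    (hnn : ∀ N : Subgroup G, N.Normal → Nat.card N ≠ p) {x : G} (hx : orderOf x = p) :
    (∀ N : Subgroup (Subgroup.normalClosure ({x} : Set G)), N.Normal → Nat.card N ≠ p) ∧
      Subgroup.normalClosure ({⟨x, Subgroup.subset_normalClosure rfl⟩} :
        Set (Subgroup.normalClosure ({x} : Set G))) = ⊤ := by
  set L := Subgroup.normalClosure ({x} : Set G)
  have hsqL : ¬ p ^ 2 ∣ Nat.card L := fun h => hsq (h.trans (Subgroup.card_subgroup_dvd_card L))
  have hconj : ∀ N : Subgroup L, N.Normal → p ∣ Nat.card N → N = ⊤ := by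
    intro N hN hd
    haveI := hN
    rw [← Subgroup.map_subtype_inj, ← MonoidHom.range_eq_map, Subgroup.range_subtype]
    refine le_antisymm (Subgroup.map_subtype_le N) ((Subgroup.closure_le _).mpr ?_)
    intro y hy
    obtain ⟨w, hw, hc⟩ := Group.mem_conjugatesOfSet_iff.mp hy
    obtain rfl : w = x := hw
    obtain ⟨c, rfl⟩ := isConj_iff.mp hc
    have hyL : c * w * c⁻¹ ∈ L :=
      Subgroup.normalClosure_normal.conj_mem _ (Subgroup.subset_normalClosure (Set.mem_singleton _)) c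
    exact ⟨⟨_, hyL⟩, mem_of_dvd hsqL N hd (Subtype.ext (by
      rw [SubmonoidClass.coe_pow, conj_pow, ← hx, pow_orderOf_eq_one]; simp)), rfl⟩
  refine ⟨fun N hN hc => hnn L inferInstance ?_, hconj _ inferInstance ?_⟩
  · have h := hconj N hN (hc ▸ dvd_refl _)
    rw [h, Subgroup.card_top] at hc
    exact hc
  · refine dvd_card_of_mem (x := (⟨x, Subgroup.subset_normalClosure rfl⟩ : L)) ?_
      (Subgroup.subset_normalClosure rfl)
    rw [← hx, ← Subgroup.orderOf_coe]

/-- The eigenvalue count on `⟨x⟩`. -/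
theorem sum_sq_pow_ge {G : Type u} [Group G] [Finite G] {χ : G → ℂ} (hχ : IsCharacter G χ) {x : G}
    (hx : orderOf x = p) :
    (p * deg χ : ℝ) ≤ ∑ i ∈ Finset.range p, ‖χ (x ^ i)‖ ^ 2 := by
  classical
  obtain ⟨n, ρ, rfl⟩ := hχ
  obtain ⟨ω, hω, hval⟩ := exists_eigenvalues ρ x
  rw [deg_eq_finrank]
  set A := Finset.univ.filter fun q : Fin (Module.finrank ℂ (Fin n → ℂ)) × _ => ω q.1 * conj (ω q.2) = 1
  have e : ((∑ i ∈ Finset.range p, ‖ρ.character (x ^ i)‖ ^ 2 : ℝ) : ℂ) = ((p * A.card : ℕ) : ℂ) := by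
    rw [Complex.ofReal_sum]
    simp only [Complex.ofReal_pow, ← Complex.mul_conj', hval, map_sum, Finset.sum_mul_sum, map_pow,
      ← mul_pow]
    rw [Finset.sum_comm, Finset.sum_congr rfl fun j _ => Finset.sum_comm, ← Finset.sum_product',
      Finset.univ_product_univ, Nat.cast_mul, mul_comm (p : ℂ), ← nsmul_eq_mul, ← Finset.sum_const,
      Finset.sum_filter]
    refine Finset.sum_congr rfl fun q _ => ?_
    by_cases hz : ω q.1 * conj (ω q.2) = 1
    · rw [if_pos hz, hz]
      simp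
    · rw [if_neg hz, geom_sum_eq hz]
      have hzp : (ω q.1 * conj (ω q.2)) ^ p = 1 := by
        have h1 := hω q.1
        have h2 := hω q.2
        rw [hx] at h1 h2
        rw [mul_pow, ← map_pow, h1, h2, map_one, one_mul]
      rw [hzp, sub_self, zero_div]
  rw [← Complex.ofReal_natCast] at e
  rw [Complex.ofReal_inj.mp e]
  have hA : Module.finrank ℂ (Fin n → ℂ) ≤ A.card := by
    refine le_trans (by simp) (Finset.card_le_card_of_injOn (fun i => (i, i))
      (s := Finset.univ) (fun i _ => ?_) fun a _ b _ h => (Prod.ext_iff.mp h).1)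
    rw [Finset.mem_coe, Finset.mem_filter]
    refine ⟨Finset.mem_univ _, ?_⟩
    have h1 := hω i
    rw [hx] at h1
    rw [Complex.mul_conj', Complex.norm_eq_one_of_pow_eq_one h1 hp.out.ne_zero]
    simp
  push_cast
  exact mul_le_mul_of_nonneg_left (by exact_mod_cast hA) (Nat.cast_nonneg _)

/-- Central elements act by roots of unity. -/
theorem norm_mul_central {G : Type u} [Group G] [Fintype G] {χ : G → ℂ} (hχ : IsIrrCharacter G χ)
    {z : G} (hz : z ∈ Subgroup.center G) (g : G) : ‖χ (g * z)‖ = ‖χ g‖ := by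
  obtain ⟨n, ρ, hρ, rfl⟩ := hχ
  obtain ⟨c, h, hc⟩ := central_scalar ρ hz
  have hval : ρ.character (g * z) = c * ρ.character g := by
    simp only [Representation.character]
    rw [map_mul, h, Module.End.mul_eq_comp, LinearMap.comp_smul, LinearMap.comp_id, map_smul,
      smul_eq_mul]
  rw [hval, norm_mul, hc, one_mul]

section Generated

variable {G : Type u} [Group G] [Fintype G] {M : Ideal AlgInt} [M.IsPrime]

open Blocks in
/-- A normal `p'`-subgroup is central. -/
theorem central_of_normal (hM : IsPModular p M) {x : G} (hx : orderOf x = p)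
    (hsq : ¬ p ^ 2 ∣ Nat.card G) (hnn : ∀ N : Subgroup G, N.Normal → Nat.card N ≠ p)
    (hgen : Subgroup.normalClosure ({x} : Set G) = ⊤) {χ : G → ℂ} (hχ : IsIrrCharacter G χ)
    (hfaith : ∀ g : G, χ g = χ 1 → g = 1) (hdeg : 2 * deg χ + 1 = p) (h2 : 2 ≤ deg χ)
    (K : Subgroup G) [K.Normal] (hK : ¬ p ∣ Nat.card K) : K ≤ Subgroup.center G := by
  classical
  intro k₀ hk₀
  have hcent : ∀ {v : G}, Commute x v → ¬ p ∣ orderOf v → v ∈ Subgroup.center G :=
    fun hv hvp => SmallFaithful.central_of_irr hM hx hsq hnn hgen ⟨χ, hχ⟩ hfaith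
      (show 2 * deg χ ≤ p by omega) hv hvp
  have hKp : ∀ k ∈ K, ¬ p ∣ orderOf k := fun k hk h => hK (h.trans (K.orderOf_dvd_natCard hk))
  refine hcent ?_ (hKp k₀ hk₀)
  by_contra hk₀x
  have hdisj : ∀ k ∈ K, k ∈ Subgroup.zpowers x → k = 1 := by
    intro k hk hkx
    have h1 := Subgroup.orderOf_dvd_natCard _ hkx
    rw [Nat.card_zpowers, hx] at h1
    rcases (Nat.dvd_prime hp.out).mp h1 with h | h
    · exact orderOf_eq_one_iff.mp h
    · exact absurd (h ▸ dvd_refl _) (hKp k hk)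
  set H := K ⊔ Subgroup.zpowers x with hH
  letI := Fintype.ofFinite H
  letI := Fintype.ofFinite K
  have hxH : x ∈ H := Subgroup.mem_sup_right (Subgroup.mem_zpowers x)
  have hsqH : ¬ p ^ 2 ∣ Nat.card H := fun h => hsq (h.trans (Subgroup.card_subgroup_dvd_card H))
  have hxH' : orderOf (⟨x, hxH⟩ : H) = p := by rw [← hx, ← Subgroup.orderOf_coe]
  -- the restriction to `K⟨x⟩` is irreducible
  have hirr : IsIrrCharacter H fun h : H => χ h := by
    refine irr_of_half hsqH (hxH' ▸ orderOf_dvd_natCard _) (fun N hN hc => hk₀x ?_)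
      (isCharacter_restrict H (isCharacter_of_isIrr hχ)) (fun g hg => Subtype.ext (hfaith g hg)) hdeg
    haveI := hN
    have hxN : (⟨x, hxH⟩ : H) ∈ N :=
      SmallFaithful.mem_of_normal hsqH N hc (hxH' ▸ pow_orderOf_eq_one _)
    have hNx : Subgroup.zpowers (⟨x, hxH⟩ : H) = N :=
      Subgroup.eq_of_le_of_card_ge (Subgroup.zpowers_le.mpr hxN) (by rw [hc, Nat.card_zpowers, hxH'])
    have h1 : k₀ * x * k₀⁻¹ * x⁻¹ ∈ Subgroup.zpowers x := by
      have h2 : (⟨k₀, Subgroup.mem_sup_left hk₀⟩ : H) * ⟨x, hxH⟩ *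
          (⟨k₀, Subgroup.mem_sup_left hk₀⟩ : H)⁻¹ * (⟨x, hxH⟩ : H)⁻¹ ∈ N :=
        N.mul_mem (hN.conj_mem _ hxN _) (N.inv_mem hxN)
      rw [← hNx] at h2
      obtain ⟨i, hi⟩ := Subgroup.mem_zpowers_iff.mp h2
      exact Subgroup.mem_zpowers_iff.mpr ⟨i, by simpa using congrArg Subtype.val hi⟩
    have h3 : k₀ * x * k₀⁻¹ * x⁻¹ ∈ K := by
      rw [mul_assoc k₀, mul_assoc k₀]
      exact K.mul_mem hk₀ (‹K.Normal›.conj_mem _ (K.inv_mem hk₀) x)
    have h4 := hdisj _ h3 h1
    rw [mul_inv_eq_one, mul_inv_eq_iff_eq_mul] at h4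
    exact h4.symm
  let Ψ : K × Fin p → H := fun q => ⟨(q.1 : G) * x ^ (q.2 : ℕ),
    H.mul_mem (Subgroup.mem_sup_left q.1.2) (H.pow_mem hxH _)⟩
  have hΨ : Function.Bijective Ψ := by
    refine ⟨fun a b e => ?_, fun h => ?_⟩
    · have e' : (a.1 : G) * x ^ (a.2 : ℕ) = (b.1 : G) * x ^ (b.2 : ℕ) := congrArg Subtype.val e
      have e1 : (b.1 : G)⁻¹ * a.1 = x ^ (b.2 : ℕ) * (x ^ (a.2 : ℕ))⁻¹ := by
        rw [eq_mul_inv_iff_mul_eq, mul_assoc, e', inv_mul_cancel_left]
      have e2 : (b.1 : G)⁻¹ * a.1 = 1 := hdisj _ (K.mul_mem (K.inv_mem b.1.2) a.1.2) (by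
        rw [e1]
        exact mul_mem (pow_mem (Subgroup.mem_zpowers x) _) (inv_mem (pow_mem (Subgroup.mem_zpowers x) _)))
      have e3 : b.1 = a.1 := Subtype.ext (inv_mul_eq_one.mp e2)
      rw [e3, mul_left_cancel_iff] at e'
      exact Prod.ext e3.symm (Fin.ext (pow_injOn_Iio_orderOf (by rw [Set.mem_Iio, hx]; exact a.2.2)
        (by rw [Set.mem_Iio, hx]; exact b.2.2) e'))
    · have hh : (h : G) ∈ (↑(K ⊔ Subgroup.zpowers x) : Set G) := h.2
      rw [Subgroup.normal_mul, Set.mem_mul] at hh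
      obtain ⟨k, hk, y, hy, e⟩ := hh
      obtain ⟨i, hi, rfl⟩ := Finset.mem_image.mp (mem_zpowers_iff_mem_range_orderOf.mp hy)
      exact ⟨(⟨k, hk⟩, ⟨i, hx ▸ Finset.mem_range.mp hi⟩), Subtype.ext e⟩
  have hcardH : (Nat.card H : ℝ) = p * Nat.card K := by
    rw [← Nat.card_eq_of_bijective Ψ hΨ, Nat.card_prod, Nat.card_fin, Nat.cast_mul, mul_comm]
  have hone : ∑ h : H, ‖χ h‖ ^ 2 = (Nat.card H : ℝ) := by
    have h := irr_inner_self hirr
    rw [classInner_self, ← Complex.ofReal_one, Complex.ofReal_inj,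
      inv_mul_eq_one₀ (Nat.cast_ne_zero.mpr Nat.card_pos.ne')] at h
    exact h.symm
  have hK0 : (Nat.card K : ℝ) ≤ ∑ k : K, ‖χ (k : G)‖ ^ 2 := by
    obtain ⟨n, hn⟩ := classInner_character_nat (isCharacter_restrict K (isCharacter_of_isIrr hχ))
      (isCharacter_restrict K (isCharacter_of_isIrr hχ))
    have hn0 : n ≠ 0 := by
      rintro rfl
      have := congrFun (classInner_self_eq_zero (hn.trans Nat.cast_zero)) 1
      exact irr_one_ne_zero hχ (by simpa using this)
    rw [classInner_self, ← Complex.ofReal_natCast, Complex.ofReal_inj,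
      inv_mul_eq_iff_eq_mul₀ (Nat.cast_ne_zero.mpr Nat.card_pos.ne')] at hn
    rw [hn]
    exact le_mul_of_one_le_right (Nat.cast_nonneg _) (by exact_mod_cast Nat.pos_of_ne_zero hn0)
  -- the other cosets
  have hcoset : ∀ i : Fin p, (i : ℕ) ≠ 0 →
      ∑ k : K, ‖χ ((k : G) * x ^ (i : ℕ))‖ ^ 2 = Nat.card K * ‖χ (x ^ (i : ℕ))‖ ^ 2 := by
    intro i hi
    set y := x ^ (i : ℕ)
    have hy : orderOf y = p := orderOf_eq_prime (by
      have hxp : x ^ p = 1 := hx ▸ pow_orderOf_eq_one x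
      rw [← pow_mul, mul_comm, pow_mul, hxp, one_pow]) (pow_ne_one_of_lt_orderOf hi (by rw [hx]; exact i.2))
    have hxy : x ∈ Subgroup.zpowers y := by
      rw [Subgroup.eq_of_le_of_card_ge (Subgroup.zpowers_le.mpr (pow_mem (Subgroup.mem_zpowers x) _))
        (by rw [Nat.card_zpowers, Nat.card_zpowers, hx, hy])]
      exact Subgroup.mem_zpowers x
    set Z := (Subgroup.centralizer ({y} : Set G)).subgroupOf K
    have hzy : ∀ z : Z, Commute ((z : K) : G) y := fun z =>
      Subgroup.mem_centralizer_singleton_iff.mp z.2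
    have hzc : ∀ z : Z, ((z : K) : G) ∈ Subgroup.center G := by
      intro z
      obtain ⟨j, hj⟩ := Subgroup.mem_zpowers_iff.mp hxy
      exact hcent (hj ▸ ((hzy z).zpow_right j).symm) (hKp _ (z : K).2)
    let Φ : (K ⧸ Z) × Z → K := fun q => ⟨((q.1.out : K) : G) * y * ((q.1.out : K) : G)⁻¹ * y⁻¹ * ((q.2 : K) : G),
      K.mul_mem (by
        rw [mul_assoc ((q.1.out : K) : G), mul_assoc ((q.1.out : K) : G)]
        exact K.mul_mem (q.1.out : K).2 (‹K.Normal›.conj_mem _ (K.inv_mem (q.1.out : K).2) y))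
      (q.2 : K).2⟩
    have hΦ : Function.Bijective Φ := by
      rw [Nat.bijective_iff_injective_and_card]
      refine ⟨fun a b e => ?_, by rw [Nat.card_prod, ← Subgroup.card_eq_card_quotient_mul_card_subgroup]⟩
      set r := ((a.1.out : K) : G)
      set t := ((b.1.out : K) : G)
      have e' : r * y * r⁻¹ * y⁻¹ * ((a.2 : K) : G) = t * y * t⁻¹ * y⁻¹ * ((b.2 : K) : G) :=
        congrArg Subtype.val e
      set za := ((a.2 : K) : G)
      set zb := ((b.2 : K) : G)
      have ca := fun g => Subgroup.mem_center_iff.mp (hzc a.2) g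
      have cb := fun g => Subgroup.mem_center_iff.mp (hzc b.2) g
      have e1 : r * y * r⁻¹ * za = t * y * t⁻¹ * zb := by
        have := congrArg (· * y) e'
        simp only [mul_assoc] at this
        rw [← ca y, ← cb y, inv_mul_cancel_left, inv_mul_cancel_left] at this
        simpa only [mul_assoc] using this
      have e2 : za ^ p = zb ^ p := by
        have := congrArg (· ^ p) e1
        simp only [(show Commute (r * y * r⁻¹) za from ca _).mul_pow,
          (show Commute (t * y * t⁻¹) zb from cb _).mul_pow] at this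
        rwa [conj_pow, conj_pow, ← hy, pow_orderOf_eq_one, mul_one, mul_inv_cancel, one_mul, mul_one,
          mul_inv_cancel, one_mul, hy] at this
      have e3 : za = zb := by
        refine inv_mul_eq_one.mp ?_ |>.symm
        have hmem : zb⁻¹ * za ∈ K := K.mul_mem (K.inv_mem (b.2 : K).2) (a.2 : K).2
        have hpow : (zb⁻¹ * za) ^ p = 1 := by
          rw [(show Commute zb⁻¹ za from ca _).mul_pow, inv_pow, e2, inv_mul_cancel]
        refine orderOf_eq_one_iff.mp ?_
        rcases (Nat.dvd_prime hp.out).mp (orderOf_dvd_of_pow_eq_one hpow) with h | h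
        · exact h
        · exact absurd (h ▸ dvd_refl _) (hKp _ hmem)
      rw [e3, mul_left_inj] at e1
      have e4 : b.1 = a.1 := by
        rw [← b.1.out_eq, ← a.1.out_eq]
        refine QuotientGroup.eq.mpr ?_
        rw [Subgroup.mem_subgroupOf, Subgroup.mem_centralizer_singleton_iff]
        show t⁻¹ * r * y = y * (t⁻¹ * r)
        calc t⁻¹ * r * y = t⁻¹ * (r * y * r⁻¹) * r := by group
          _ = y * (t⁻¹ * r) := by rw [e1]; group
      exact Prod.ext e4.symm (Subtype.ext (Subtype.ext e3))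
    rw [← Fintype.sum_equiv (Equiv.ofBijective Φ hΦ) (fun q => ‖χ ((Φ q : G) * y)‖ ^ 2)
      (fun k : K => ‖χ ((k : G) * y)‖ ^ 2) fun q => rfl, Finset.sum_congr rfl fun q _ => ?_,
      Finset.sum_const, Finset.card_univ, nsmul_eq_mul, ← Nat.card_eq_fintype_card,
      Nat.card_eq_of_bijective Φ hΦ]
    show ‖χ (((q.1.out : K) : G) * y * ((q.1.out : K) : G)⁻¹ * y⁻¹ * ((q.2 : K) : G) * y)‖ ^ 2 = ‖χ y‖ ^ 2
    rw [mul_assoc (_ * y⁻¹), ← Subgroup.mem_center_iff.mp (hzc q.2) y, ← mul_assoc,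
      inv_mul_cancel_right, norm_mul_central hχ (hzc q.2), isClassFunction_of_isIrr hχ]
  obtain ⟨n, hn⟩ : ∃ n, p = n + 1 := ⟨p - 1, by omega⟩
  subst hn
  rw [← Fintype.sum_equiv (Equiv.ofBijective Ψ hΨ) (fun q => ‖χ ((Ψ q : H) : G)‖ ^ 2)
    (fun h : H => ‖χ (h : G)‖ ^ 2) fun q => rfl, Fintype.sum_prod_type, Finset.sum_comm,
    Fin.sum_univ_succ, hcardH] at hone
  simp only [Ψ, Fin.val_zero, pow_zero, mul_one] at hone
  rw [Finset.sum_congr rfl fun i _ => hcoset (Fin.succ i) (by simp), ← Finset.mul_sum] at hone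
  have hP := sum_sq_pow_ge (isCharacter_of_isIrr hχ) hx
  rw [Finset.sum_range_succ', pow_zero, deg_eq (isCharacter_of_isIrr hχ), Complex.norm_natCast] at hP
  simp only [Fin.val_succ] at hone
  rw [Fin.sum_univ_eq_sum_range (fun i => ‖χ (x ^ (i + 1))‖ ^ 2)] at hone
  have hKpos : (0 : ℝ) < Nat.card K := Nat.cast_pos.mpr Nat.card_pos
  have hS : ∑ i ∈ Finset.range n, ‖χ (x ^ (i + 1))‖ ^ 2 ≤ n := by
    refine le_of_mul_le_mul_left ?_ hKpos
    push_cast at hone
    nlinarith
  have hnR : (n : ℝ) = 2 * (deg χ : ℝ) := by exact_mod_cast (show n = 2 * deg χ by omega)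
  have h2R : (2 : ℝ) ≤ deg χ := by exact_mod_cast h2
  push_cast at hP
  nlinarith

open Blocks in
/-- The group is perfect. -/
theorem commutator_eq_top (hM : IsPModular p M) {x : G} (hx : orderOf x = p)
    (hsq : ¬ p ^ 2 ∣ Nat.card G) (hnn : ∀ N : Subgroup G, N.Normal → Nat.card N ≠ p)
    (hgen : Subgroup.normalClosure ({x} : Set G) = ⊤) {χ : G → ℂ} (hχ : IsIrrCharacter G χ)
    (hfaith : ∀ g : G, χ g = χ 1 → g = 1) (hdeg : 2 * deg χ + 1 = p) (h2 : 2 ≤ deg χ) :
    commutator G = ⊤ := by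
  have hxp : x ^ p = 1 := hx ▸ pow_orderOf_eq_one x
  by_cases hd : p ∣ Nat.card (commutator G)
  · exact top_le_iff.mp (hgen ▸ Subgroup.normalClosure_le_normal
      (Set.singleton_subset_iff.mpr (mem_of_dvd hsq _ hd hxp)))
  exfalso
  have hc := central_of_normal hM hx hsq hnn hgen hχ hfaith hdeg h2 (commutator G) hd
  have hxc : ∀ g : G, g * x = x * g := by
    intro g
    have hmem : g * x * g⁻¹ * x⁻¹ ∈ commutator G :=
      Subgroup.commutator_mem_commutator (Subgroup.mem_top g) (Subgroup.mem_top x)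
    set z := g * x * g⁻¹ * x⁻¹ with hzdef
    have hzx : g * x * g⁻¹ = z * x := by rw [hzdef, inv_mul_cancel_right]
    have h1 := congrArg (· ^ p) hzx
    simp only [(show Commute z x from (Subgroup.mem_center_iff.mp (hc hmem) x).symm).mul_pow,
      conj_pow, hxp, mul_one, mul_inv_cancel] at h1
    have hz1 : z = 1 := by
      refine orderOf_eq_one_iff.mp ?_
      rcases (Nat.dvd_prime hp.out).mp (orderOf_dvd_of_pow_eq_one h1.symm) with h | h
      · exact h
      · exact absurd (h ▸ Subgroup.orderOf_dvd_natCard _ hmem) hd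
    rw [hz1, one_mul, mul_inv_eq_iff_eq_mul] at hzx
    exact hzx
  refine hnn (Subgroup.zpowers x) ⟨fun y hy g => ?_⟩ (by rw [Nat.card_zpowers, hx])
  obtain ⟨i, rfl⟩ := Subgroup.mem_zpowers_iff.mp hy
  rw [((show Commute g x from hxc g).zpow_right i).eq, mul_inv_cancel_right]
  exact hy

end Generated

end Cfsg.Agent.Blocks.SmallDim
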