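import Cfsg.Agent.Lib.CT.SmallFaithful.Main
import Mathlib.GroupTheory.GroupAction.Quotient

/-!
# Transfer of endomorphisms from the normalizer of a subgroup of order `p`

If `(π x - 1)^(p - 1) = 0`, an endomorphism commuting with the normalizer of `⟨x⟩` has a transfer
commuting with the whole group that agrees with it on the vectors fixed by `x`.
-/

set_option autoImplicit false
set_option linter.unusedSectionVars false

namespace Cfsg.Agent.Blocks.SmallDim

universe u v w

variable {k : Type v} [Field k] {p : ℕ} [hp : Fact p.Prime] [CharP k p]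
variable {G : Type u} [Group G] [Finite G]

theorem transfer {E : Type w} [AddCommGroup E] [Module k E] (π : Representation k G E) {x : G}
    (hx : orderOf x = p) (hsq : ¬ p ^ 2 ∣ Nat.card G) (hs : (π x - 1) ^ (p - 1) = 0) (a : Module.End k E)
    (hN : ∀ n ∈ Subgroup.normalizer (Subgroup.zpowers x : Set G), π n * a = a * π n) :
    ∃ F : Module.End k E, (∀ g, π g * F = F * π g) ∧ ∀ v, π x v = v → F v = a v := by
  classical
  set P := Subgroup.zpowers x
  set Nm := Subgroup.normalizer (P : Set G)
  haveI := Fintype.ofFinite (G ⧸ Nm)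
  haveI := Fintype.ofFinite P
  have hinv : ∀ g : G, π g * π g⁻¹ = 1 := fun g => by rw [← map_mul, mul_inv_cancel, map_one]
  have hinv' : ∀ g : G, π g⁻¹ * π g = 1 := fun g => by rw [← map_mul, inv_mul_cancel, map_one]
  set f : G ⧸ Nm → Module.End k E := fun q => π q.out * a * π q.out⁻¹ with hf
  have hfmk : ∀ g : G, f (g : G ⧸ Nm) = π g * a * π g⁻¹ := by
    intro g
    obtain ⟨⟨y, hy⟩, e⟩ := QuotientGroup.mk_out_eq_mul Nm g
    show π _ * a * π _⁻¹ = _
    rw [e, mul_inv_rev, map_mul, map_mul, mul_assoc (π g), hN y hy, ← mul_assoc (π g) a,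
      mul_assoc (π g * a), ← mul_assoc (π y), hinv, one_mul]
  have hfsmul : ∀ (g : G) (q : G ⧸ Nm), f (g • q) = π g * f q * π g⁻¹ := by
    intro g q
    induction q using QuotientGroup.induction_on with
    | _ h =>
      rw [show g • (h : G ⧸ Nm) = ((g * h : G) : G ⧸ Nm) from rfl, hfmk, hfmk, map_mul, mul_inv_rev,
        map_mul]
      simp only [mul_assoc]
  refine ⟨∑ q, f q, fun g => ?_, fun v hv => ?_⟩
  · have e : π g * (∑ q, f q) * π g⁻¹ = ∑ q, f q := by
      rw [Finset.mul_sum, Finset.sum_mul]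
      exact Fintype.sum_equiv (MulAction.toPerm g) _ _ fun q => (hfsmul g q).symm
    conv_rhs => rw [← e]
    rw [mul_assoc, hinv', mul_one]
  have hvP : ∀ y ∈ P, π y v = v := by
    intro y hy
    obtain ⟨i, rfl⟩ := (mem_powers_iff_mem_zpowers (x := x)).mpr hy
    show π (x ^ i) v = v
    induction i with
    | zero => rw [pow_zero, map_one]; rfl
    | succ i ih =>
      rw [pow_succ, map_mul, Module.End.mul_apply, hv,
        ih (Subgroup.pow_mem _ (Subgroup.mem_zpowers x) i)]
  have hφ : ∀ y ∈ P, ∀ q : G ⧸ Nm, f (y • q) v = π y (f q v) := fun y hy q => by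
    rw [hfsmul, Module.End.mul_apply, Module.End.mul_apply, hvP _ (P.inv_mem hy)]
  have hsum : ∑ y : P, π (y : G) = 0 := by
    rw [CT.SmallFaithful.sum_zpowers π hx, hs]
  -- only the trivial coset is fixed by `x`
  have hfix : ∀ q : G ⧸ Nm, x • q = q → q = ((1 : G) : G ⧸ Nm) := by
    intro q
    induction q using QuotientGroup.induction_on with
    | _ g =>
      intro hq
      rw [show x • (g : G ⧸ Nm) = ((x * g : G) : G ⧸ Nm) from rfl, QuotientGroup.eq] at hq
      have h1 : g⁻¹ * x * g ∈ Nm := by
        have := Nm.inv_mem hq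
        simpa [mul_inv_rev, mul_assoc] using this
      rw [QuotientGroup.eq, mul_one]
      refine Nm.inv_mem ?_
      by_contra hg
      apply hg
      -- `g⁻¹ x g` normalizes `P` and has order `p`
      have h2 : g⁻¹ * x * g ∈ P := by
        haveI : (P.subgroupOf Nm).Normal := Subgroup.normal_in_normalizer
        have hc : Nat.card (P.subgroupOf Nm) = p := by
          rw [Nat.card_congr (Subgroup.subgroupOfEquivOfLe (Subgroup.le_normalizer (H := P))).toEquiv,
            Nat.card_zpowers, hx]
        refine CT.SmallFaithful.mem_of_normal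
          (fun h => hsq (h.trans (Subgroup.card_subgroup_dvd_card Nm))) _ hc (y := ⟨_, h1⟩) ?_
        refine Subtype.ext ?_
        show (g⁻¹ * x * g) ^ p = 1
        rw [show g⁻¹ * x * g = MulAut.conj g⁻¹ x by simp, ← map_pow, ← hx, pow_orderOf_eq_one, map_one]
      have h3 : Subgroup.zpowers (g⁻¹ * x * g) = P := by
        refine Subgroup.eq_of_le_of_card_ge (Subgroup.zpowers_le.mpr h2) ?_
        rw [Nat.card_zpowers, Nat.card_zpowers,
          show g⁻¹ * x * g = MulAut.conj g⁻¹ x by simp, MulEquiv.orderOf_eq]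
      rw [← inv_mem_iff (H := Nm), Subgroup.mem_normalizer_iff]
      have hmap : P.map (MulAut.conj g⁻¹).toMonoidHom = P := by
        rw [MonoidHom.map_zpowers]
        simpa using h3
      intro z
      constructor
      · intro hz
        rw [← hmap]
        exact ⟨z, hz, by simp⟩
      · intro hz
        rw [← hmap] at hz
        obtain ⟨w, hw, hwe⟩ := hz
        have : w = z := (MulAut.conj g⁻¹).injective (by simpa using hwe)
        exact this ▸ hw
  rw [LinearMap.sum_apply, ← Finset.add_sum_erase _ _ (Finset.mem_univ (((1 : G) : G ⧸ Nm))),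
    hfmk, map_one, inv_one, map_one, one_mul, mul_one]
  refine add_eq_left.mpr ?_
  -- the other cosets fall into regular orbits
  have key : ∀ n : ℕ, ∀ s : Finset (G ⧸ Nm), s.card ≤ n → (∀ q ∈ s, ((1 : G) : G ⧸ Nm) ≠ q) →
      (∀ y ∈ P, ∀ q ∈ s, y • q ∈ s) → ∑ q ∈ s, f q v = 0 := by
    intro n
    induction n with
    | zero => intro s hs _ _; rw [Finset.card_eq_zero.mp (Nat.le_zero.mp hs), Finset.sum_empty]
    | succ n ih =>
      intro s hs h1 hst
      rcases s.eq_empty_or_nonempty with rfl | ⟨q₀, hq₀⟩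
      · rw [Finset.sum_empty]
      set O : Finset (G ⧸ Nm) := Finset.univ.image fun y : P => (y : G) • q₀
      have hO : O ⊆ s := fun q hq => by
        obtain ⟨y, -, rfl⟩ := Finset.mem_image.mp hq
        exact hst y y.2 q₀ hq₀
      have hinj : Function.Injective fun y : P => (y : G) • q₀ := by
        intro y z e
        by_contra hyz
        have hst' : ((z : G)⁻¹ * y) • q₀ = q₀ := by
          rw [mul_smul, show (y : G) • q₀ = (z : G) • q₀ from e, inv_smul_smul]
        have hgen : x ∈ Subgroup.zpowers ((z : G)⁻¹ * y) := by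
          have hcard : Nat.card P = p := by rw [Nat.card_zpowers, hx]
          have hne : z⁻¹ * y ≠ (1 : P) := fun h => hyz (inv_mul_eq_one.mp h).symm
          obtain ⟨i, hi⟩ := Subgroup.mem_zpowers_iff.mp
            (mem_zpowers_of_prime_card hcard hne (g' := (⟨x, Subgroup.mem_zpowers x⟩ : P)))
          exact Subgroup.mem_zpowers_iff.mpr ⟨i, by simpa using congrArg Subtype.val hi⟩
        refine h1 q₀ hq₀ (hfix q₀ ?_).symm
        exact (Subgroup.zpowers_le (H := MulAction.stabilizer G q₀)).mpr hst' hgen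
      rw [← Finset.sum_sdiff hO, ih (s \ O) ?_ (fun q hq => h1 q (Finset.mem_sdiff.mp hq).1) ?_,
        zero_add, Finset.sum_image fun a _ b _ e => hinj e,
        Finset.sum_congr rfl fun (y : P) _ => hφ y y.2 q₀, ← LinearMap.sum_apply, hsum,
        LinearMap.zero_apply]
      · have h2 : 0 < O.card := Finset.card_pos.mpr ⟨_, Finset.mem_image.mpr ⟨1, Finset.mem_univ _, rfl⟩⟩
        rw [Finset.card_sdiff_of_subset hO]
        omega
      · intro y hy q hq
        obtain ⟨hqs, hqO⟩ := Finset.mem_sdiff.mp hq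
        refine Finset.mem_sdiff.mpr ⟨hst y hy q hqs, fun h => hqO ?_⟩
        obtain ⟨z, -, hz⟩ := Finset.mem_image.mp h
        refine Finset.mem_image.mpr ⟨⟨y, hy⟩⁻¹ * z, Finset.mem_univ _, ?_⟩
        show ((y : G)⁻¹ * z) • q₀ = q
        rw [mul_smul, hz, inv_smul_smul]
  refine key _ _ le_rfl (fun q hq => ((Finset.mem_erase.mp hq).1).symm) fun y hy q hq => ?_
  refine Finset.mem_erase.mpr ⟨fun e => (Finset.mem_erase.mp hq).1 ?_, Finset.mem_univ _⟩
  rw [← inv_smul_smul y q, e]
  show ((y⁻¹ * 1 : G) : G ⧸ Nm) = _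
  rw [QuotientGroup.eq, mul_one, mul_one, inv_inv]
  exact Subgroup.le_normalizer hy

end Cfsg.Agent.Blocks.SmallDim
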